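import Mathlib
import Cfsg.Agent.Eq.Def_Solvable
import Cfsg.Agent.Eq.Def_Local
import Cfsg.Agent.Eq.Def_Transfer
import Cfsg.Agent.GlaubermanZJ.Factorization
import Cfsg.Agent.Constrained.HallHigman
import Cfsg.Agent.SolvSignalizer.PrimeCoreOf
import Cfsg.Agent.SolvableSFour.Uniqueness
import Cfsg.Agent.LocalCharP.StronglyEmbedded

/-!
Tools for 2-local analysis with solvable locals.

* `split`: conjugation inside `C N` between subsets of a Sylow subgroup `R ≤ N` is done inside `N`,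
  up to an element of `C`;
* `agree_core`: elements of a normal subgroup of odd order fuse nothing in `R`;
* `exists_factor`: the Thompson factorization modulo `O(L)`;
* `eq_core_sup_normalizer`: a strongly closed elementary 2-subgroup of a solvable group is normal
  modulo `O(X)`.
-/

set_option autoImplicit false

namespace CfsgLib.LocalSFour60

open Cfsg CfsgLib.SolvableSFour
open scoped Pointwise
open CfsgLib.SolvSignalizer (uCoreOf uCoreOf_le le_normalizer_uCoreOf not_dvd_uCoreOf)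

variable {G : Type*} [Group G]

/-- Some element of `M` conjugates the members of `X` as `g` does. -/
def Agree (M : Subgroup G) (X : Set G) (g : G) : Prop :=
  ∃ m ∈ M, ∀ x ∈ X, m * x * m⁻¹ = g * x * g⁻¹

theorem Agree.mul {M : Subgroup G} {X : Set G} {g h : G} (hg : Agree M X g)
    (hh : Agree M ((fun x => g * x * g⁻¹) '' X) h) : Agree M X (h * g) := by
  obtain ⟨m, hm, hmx⟩ := hg
  obtain ⟨n, hn, hnx⟩ := hh
  refine ⟨n * m, mul_mem hn hm, fun x hx => ?_⟩
  rw [show n * m * x * (n * m)⁻¹ = n * (m * x * m⁻¹) * n⁻¹ by group, hmx x hx,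
    hnx _ ⟨x, hx, rfl⟩]
  group

theorem Agree.mono {M : Subgroup G} {X Y : Set G} {g : G} (h : Agree M X g) (hYX : Y ⊆ X) :
    Agree M Y g := by
  obtain ⟨m, hm, hmx⟩ := h
  exact ⟨m, hm, fun x hx => hmx x (hYX hx)⟩

theorem Agree.inv {M : Subgroup G} {X : Set G} {g : G} (h : Agree M X g) :
    Agree M ((fun x => g * x * g⁻¹) '' X) g⁻¹ := by
  obtain ⟨m, hm, hmx⟩ := h
  refine ⟨m⁻¹, inv_mem hm, ?_⟩
  rintro _ ⟨x, hx, rfl⟩
  simp only
  conv_lhs => rw [← hmx x hx]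
  group

variable [Finite G]

/-- A 2-subgroup of `H` that is maximal in `L ≥ H` absorbs the 2-subgroups of `H` up to
conjugacy in `H`. -/
theorem exists_conj_mem {H R T : Subgroup G} (hRH : R ≤ H) (hR : IsPGroup 2 R)
    (hmax : ∀ D : Subgroup G, IsPGroup 2 D → R ≤ D → D ≤ H → D = R) (hT : IsPGroup 2 T) (hTH : T ≤ H) :
    ∃ h ∈ H, ∀ x ∈ T, h * x * h⁻¹ ∈ R := by
  haveI : Fact (Nat.Prime 2) := ⟨Nat.prime_two⟩
  obtain ⟨P, hP⟩ := (hR.comap_subtype (K := H)).exists_le_sylow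
  have hPR : (P : Subgroup H).map H.subtype = R := by
    refine hmax _ (P.isPGroup'.map _) (fun r hr => ?_) (Subgroup.map_subtype_le _)
    exact ⟨⟨r, hRH hr⟩, hP hr, rfl⟩
  obtain ⟨Q, hQ⟩ := (hT.comap_subtype (K := H)).exists_le_sylow
  obtain ⟨h, hh⟩ := MulAction.exists_smul_eq H Q P
  refine ⟨h, h.2, fun x hx => ?_⟩
  have h1 : MulAut.conj h • (⟨x, hTH hx⟩ : H) ∈ (P : Subgroup H) := by
    rw [← hh]
    exact Subgroup.smul_mem_pointwise_smul _ _ _ (hQ hx)
  rw [← hPR]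
  exact ⟨_, h1, rfl⟩

/-- Conjugation inside `L = C N` between parts of a Sylow 2-subgroup `R ≤ N` is an element of `N`
followed by one of `C`. -/
theorem split {L C N R : Subgroup G} (hCL : C ≤ L) (hnC : L ≤ Subgroup.normalizer (C : Set G))
    (hNL : N ≤ L) (hL : L ≤ C ⊔ N) (hR : IsPGroup 2 R) (hRN : R ≤ N)
    (hmax : ∀ D : Subgroup G, IsPGroup 2 D → R ≤ D → D ≤ L → D = R)
    {n : G} (hn : n ∈ L) {X : Set G} (hX : X ⊆ R) (hnX : ∀ x ∈ X, n * x * n⁻¹ ∈ R) :
    ∃ c ∈ C, ∃ j ∈ N, n = c * j ∧ ∀ x ∈ X, j * x * j⁻¹ ∈ R := by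
  obtain ⟨c₀, hc₀, j₀, hj₀, rfl⟩ : n ∈ (C : Set G) * (N : Set G) := by
    rw [← Subgroup.coe_mul_of_right_le_normalizer_left C N (hNL.trans hnC)]
    exact hL hn
  have hRn : R ≤ Subgroup.normalizer ((C ⊓ N : Subgroup G) : Set G) := fun r hr =>
    mem_normalizer_of_forall fun x hx => Subgroup.mem_inf.2
      ⟨conj_mem_of_mem_normalizer (hnC (hNL (hRN hr))) hx.1,
        mul_mem (mul_mem (hRN hr) hx.2) (inv_mem (hRN hr))⟩
  set H := (C ⊓ N) ⊔ R with hH
  have hHL : H ≤ L := sup_le (inf_le_left.trans hCL) (hRN.trans hNL)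
  set T := (Subgroup.closure X).map (MulAut.conj j₀).toMonoidHom with hT
  have hclR : Subgroup.closure X ≤ R := (Subgroup.closure_le _).2 hX
  have hT2 : IsPGroup 2 T := (hR.to_le hclR).map _
  have hTH : T ≤ H := by
    rw [hT, Subgroup.map_le_iff_le_comap, Subgroup.closure_le]
    intro x hx
    show j₀ * x * j₀⁻¹ ∈ H
    set y := c₀ * j₀ * x * (c₀ * j₀)⁻¹ with hy
    have hyR : y ∈ R := hnX x hx
    have hxN : j₀ * x * j₀⁻¹ ∈ N := mul_mem (mul_mem hj₀ (hRN (hX hx))) (inv_mem hj₀)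
    have he : y⁻¹ * (j₀ * x * j₀⁻¹) = y⁻¹ * c₀⁻¹ * y * c₀ := by rw [hy]; group
    have hC : y⁻¹ * (j₀ * x * j₀⁻¹) ∈ C := by
      rw [he]
      refine mul_mem ?_ hc₀
      simpa using conj_mem_of_mem_normalizer (hnC (inv_mem (hNL (hRN hyR)))) (inv_mem hc₀)
    rw [show j₀ * x * j₀⁻¹ = y * (y⁻¹ * (j₀ * x * j₀⁻¹)) by group]
    exact mul_mem (Subgroup.mem_sup_right hyR)
      (Subgroup.mem_sup_left (Subgroup.mem_inf.2 ⟨hC, mul_mem (inv_mem (hRN hyR)) hxN⟩))
  obtain ⟨h, hh, hhT⟩ := exists_conj_mem le_sup_right hR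
    (fun D hD hRD hDH => hmax D hD hRD (hDH.trans hHL)) hT2 hTH
  obtain ⟨r, hr, c', hc', rfl⟩ : h ∈ (R : Set G) * ((C ⊓ N : Subgroup G) : Set G) := by
    rw [← Subgroup.coe_mul_of_left_le_normalizer_right R (C ⊓ N) hRn, sup_comm]
    exact hh
  refine ⟨c₀ * c'⁻¹, mul_mem hc₀ (inv_mem hc'.1), c' * j₀, mul_mem hc'.2 hj₀, by group, fun x hx => ?_⟩
  have h1 := hhT _ ⟨x, Subgroup.subset_closure hx, rfl⟩
  have h2 := mul_mem (mul_mem (inv_mem hr) h1) hr
  have h3 : r⁻¹ * (r * c' * (MulAut.conj j₀).toMonoidHom x * (r * c')⁻¹) * r =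
      c' * j₀ * x * (c' * j₀)⁻¹ := by
    simp only [MulEquiv.toMonoidHom_eq_coe, MonoidHom.coe_coe, MulAut.conj_apply]
    group
  exact h3 ▸ h2

/-- An element of an odd normal subgroup conjugating `x ∈ R` into `R` centralises it. -/
theorem agree_core {L R : Subgroup G} (hR : IsPGroup 2 R) (hRL : R ≤ L) {o x : G}
    (ho : o ∈ uCoreOf 2 L) (hx : x ∈ R) (hox : o * x * o⁻¹ ∈ R) : o * x * o⁻¹ = x := by
  haveI : Fact (Nat.Prime 2) := ⟨Nat.prime_two⟩
  have h1 : o * x * o⁻¹ * x⁻¹ ∈ uCoreOf 2 L := by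
    rw [show o * x * o⁻¹ * x⁻¹ = o * (x * o⁻¹ * x⁻¹) by group]
    exact mul_mem ho (conj_mem_of_mem_normalizer
      (le_normalizer_uCoreOf 2 L (hRL hx)) (inv_mem ho))
  have h2 : o * x * o⁻¹ * x⁻¹ ∈ R := mul_mem hox (inv_mem hx)
  obtain ⟨k, hk⟩ := hR ⟨_, h2⟩
  have h3 : orderOf (o * x * o⁻¹ * x⁻¹) ∣ 2 ^ k := orderOf_dvd_of_pow_eq_one (congrArg Subtype.val hk)
  have h4 := (uCoreOf 2 L).orderOf_dvd_natCard h1
  have h5 := (Nat.Prime.coprime_iff_not_dvd Nat.prime_two).2 (not_dvd_uCoreOf 2 L)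
  exact mul_inv_eq_one.1 (orderOf_eq_one_iff.1
    (Nat.eq_one_of_dvd_coprimes (h5.pow_left k) h3 h4))

/-- In a group with a solvable quotient condition: `C(O₂) ≤ O₂` modulo the odd core. -/
theorem charP_quotient (X : Type*) [Group X] [Finite X] [Group.IsSolvable X] :
    Subgroup.centralizer (pCore 2 (X ⧸ pPrimeCore 2 X) : Set (X ⧸ pPrimeCore 2 X)) ≤
      pCore 2 (X ⧸ pPrimeCore 2 X) :=
  haveI : Fact (Nat.Prime 2) := ⟨Nat.prime_two⟩
  CfsgLib.Constrained.centralizer_pCore_quotient_le CfsgLib.Constrained.isPSolvable_of_isSolvable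

theorem involves_mono {X Y Q : Type*} [Group X] [Group Y] [Group Q] (f : X →* Y)
    (hf : Function.Surjective f) (h : Cfsg.Involves Q Y) : Cfsg.Involves Q X := by
  obtain ⟨K, R, hn, ⟨e⟩⟩ := h
  let i : ↥(K.comap f) →* ↥K := (f.comp (K.comap f).subtype).codRestrict K fun x => x.2
  have hi : Function.Surjective i := by
    rintro ⟨k, hk⟩
    obtain ⟨x, rfl⟩ := hf k
    exact ⟨⟨x, hk⟩, rfl⟩
  exact CfsgLib.Offender.involves_of_surjective _
    ((e.toMonoidHom.comp (QuotientGroup.mk' (R.subgroupOf K))).comp i)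
    ((e.surjective.comp (QuotientGroup.mk'_surjective _)).comp hi)

theorem map_omegaCenter {X Y : Type*} [Group X] [Group Y] [Finite X] (f : X →* Y) (R : Subgroup X)
    (hf : Function.Injective (f.comp R.subtype)) :
    omegaCenter (R.map f) = (omegaCenter R).map f := by
  have h1 : omegaCenter R = (omegaCenter (⊤ : Subgroup R)).map R.subtype := by
    rw [← omegaCenter_map _ R.subtype_injective, ← MonoidHom.range_eq_map, Subgroup.range_subtype]
  rw [h1, Subgroup.map_map, ← omegaCenter_map _ hf, ← MonoidHom.range_eq_map,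
    MonoidHom.range_comp, Subgroup.range_subtype]

theorem map_thompson {X Y : Type*} [Group X] [Group Y] [Finite X] [Finite Y] (f : X →* Y)
    (R : Subgroup X) (hf : Function.Injective (f.comp R.subtype)) :
    thompsonSubgroupOf 2 (R.map f) = (thompsonSubgroupOf 2 R).map f := by
  have h1 : thompsonSubgroupOf 2 R =
      (thompsonSubgroupOf 2 (⊤ : Subgroup R)).map R.subtype := by
    rw [← CfsgLib.LocalP.thompsonSubgroupOf_map _ R.subtype_injective, ← MonoidHom.range_eq_map,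
      Subgroup.range_subtype]
  rw [h1, Subgroup.map_map, ← CfsgLib.LocalP.thompsonSubgroupOf_map _ hf, ← MonoidHom.range_eq_map,
    MonoidHom.range_comp, Subgroup.range_subtype]

theorem injective_mk_comp {X : Type*} [Group X] [Finite X] (R : Subgroup X) (hR : IsPGroup 2 R) :
    Function.Injective ((QuotientGroup.mk' (pPrimeCore 2 X)).comp R.subtype) := by
  haveI : Fact (Nat.Prime 2) := ⟨Nat.prime_two⟩
  rw [injective_iff_map_eq_one]
  intro x hx
  refine Subtype.ext (orderOf_eq_one_iff.1 ?_)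
  obtain ⟨k, hk⟩ := hR x
  have h4 := (pPrimeCore 2 X).orderOf_dvd_natCard ((QuotientGroup.eq_one_iff (x : X)).1 hx)
  exact Nat.eq_one_of_dvd_coprimes (CfsgLib.Constrained.pPrimeCore_coprime.symm.pow_left k)
    (orderOf_dvd_of_pow_eq_one (congrArg Subtype.val hk)) h4

/-- Thompson factorization modulo the odd core, with a normal first factor. -/
theorem exists_factor {X : Type*} [Group X] [Finite X] [Group.IsSolvable X]
    (hS4 : ¬ Cfsg.Involves (Equiv.Perm (Fin 4)) X) (R : Sylow 2 X) :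
    ∃ C : Subgroup X, C.Normal ∧
      C ≤ pPrimeCore 2 X ⊔ Subgroup.centralizer (omegaCenter (R : Subgroup X) : Set X) ∧
      C ⊔ Subgroup.normalizer (thompsonSubgroupOf 2 (R : Subgroup X) : Set X) = ⊤ := by
  haveI : Fact (Nat.Prime 2) := ⟨Nat.prime_two⟩
  set K := pPrimeCore 2 X with hK
  set π := QuotientGroup.mk' K with hπ
  haveI : Group.IsSolvable (X ⧸ K) :=
    Group.isSolvable_of_surjective (QuotientGroup.mk'_surjective K)
  have hS4q : ¬ Cfsg.Involves (Equiv.Perm (Fin 4)) (X ⧸ K) := fun h =>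
    hS4 (involves_mono π (QuotientGroup.mk'_surjective K) h)
  set R' : Sylow 2 (X ⧸ K) := R.mapSurjective (QuotientGroup.mk'_surjective K)
  have hR' : (R' : Subgroup (X ⧸ K)) = (R : Subgroup X).map π := rfl
  obtain ⟨hel, hle, hO2⟩ := closure_props (charP_quotient X) R'
  set W := Subgroup.normalClosure (omegaCenter (R' : Subgroup (X ⧸ K)) : Set (X ⧸ K)) with hW
  have hJC : thompsonSubgroupOf 2 (R' : Subgroup (X ⧸ K)) ≤ Subgroup.centralizer (W : Set _) :=
    CfsgLib.Offender.thompson_le_ker hS4q R' W hel.comm hel.sq hle hO2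
  set D := Subgroup.centralizer (W : Set (X ⧸ K)) with hD
  haveI : D.Normal := inferInstance
  have hDN : D ⊔ Subgroup.normalizer (thompsonSubgroupOf 2 (R' : Subgroup (X ⧸ K)) : Set _) = ⊤ := by
    rw [eq_top_iff, ← CfsgLib.GlaubermanZJ.normalizer_inf_sup_eq_top R' D]
    refine sup_le (le_trans ?_ le_sup_right) le_sup_left
    rw [← CfsgLib.LocalP.thompsonSubgroupOf_eq_of_le
      (Q := (R' : Subgroup (X ⧸ K)) ⊓ D) inf_le_left
      (le_inf (CfsgLib.LocalP.thompsonSubgroupOf_le _) hJC)]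
    exact CfsgLib.LocalP.le_normalizer_thompsonSubgroupOf _
  have hndvd : ¬ 2 ∣ Nat.card K := CfsgLib.Constrained.pPrimeCore_not_dvd
  have hinj := injective_mk_comp (R : Subgroup X) R.2
  have hJ2 : IsPGroup 2 (thompsonSubgroupOf 2 (R : Subgroup X)) :=
    R.2.to_le (CfsgLib.LocalP.thompsonSubgroupOf_le _)
  refine ⟨D.comap π, inferInstance, ?_, ?_⟩
  · have h1 : D ≤ Subgroup.centralizer ((omegaCenter (R : Subgroup X)).map π : Set (X ⧸ K)) := by
      rw [← map_omegaCenter π _ hinj, ← hR']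
      exact Subgroup.centralizer_le Subgroup.subset_normalClosure
    refine (Subgroup.comap_mono h1).trans ?_
    rw [← CfsgLib.Constrained.map_centralizer_eq (p := 2) K hndvd _
        (R.2.to_le (omegaCenter_le _)), Subgroup.comap_map_eq, QuotientGroup.ker_mk', sup_comm]
  · rw [hR', map_thompson π _ hinj,
      ← CfsgLib.Constrained.map_normalizer_eq (p := 2) K hndvd _ hJ2] at hDN
    rw [eq_top_iff]
    intro x _
    have hx : π x ∈ D ⊔ (Subgroup.normalizer (thompsonSubgroupOf 2 (R : Subgroup X) : Set X)).map π :=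
      hDN ▸ Subgroup.mem_top _
    obtain ⟨d, hd, _, ⟨n, hn, rfl⟩, he⟩ := Subgroup.mem_sup_of_normal_left.1 hx
    refine Subgroup.mem_sup_of_normal_left.2 ⟨x * n⁻¹, ?_, n, hn, by group⟩
    show π (x * n⁻¹) ∈ D
    rw [map_mul, map_inv, ← he, mul_inv_cancel_right]
    exact hd

/-- A strongly closed elementary 2-subgroup of a solvable group is normal modulo the odd core. -/
theorem eq_core_sup_normalizer {X : Type*} [Group X] [Finite X] [Group.IsSolvable X]
    (T : Sylow 2 X) {B : Subgroup X} (hBT : B ≤ (T : Subgroup X)) (hB : Elem B)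
    (hclosed : ∀ x : X, ∀ b ∈ B, x * b * x⁻¹ ∈ (T : Subgroup X) → x * b * x⁻¹ ∈ B) :
    pPrimeCore 2 X ⊔ Subgroup.normalizer (B : Set X) = ⊤ := by
  haveI : Fact (Nat.Prime 2) := ⟨Nat.prime_two⟩
  set K := pPrimeCore 2 X with hK
  set π := QuotientGroup.mk' K with hπ
  set R := pCore 2 (X ⧸ K) with hR
  have hRp : IsPGroup 2 R := CfsgLib.Constrained.isPGroup_pCore
  set T' : Sylow 2 (X ⧸ K) := T.mapSurjective (QuotientGroup.mk'_surjective K)
  have hT' : (T' : Subgroup (X ⧸ K)) = (T : Subgroup X).map π := rfl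
  have hRT : R ≤ (T' : Subgroup (X ⧸ K)) := CfsgLib.CharP.pCore_le_sylow T'
  set B' := B.map π with hB'
  have hBel : Elem B' := hB.map π
  -- `B̄` is strongly closed
  have hcl : ∀ x : X ⧸ K, ∀ b ∈ B', x * b * x⁻¹ ∈ (T' : Subgroup (X ⧸ K)) → x * b * x⁻¹ ∈ B' := by
    intro x' _ hb' hT0
    obtain ⟨b, hb, rfl⟩ := hb'
    obtain ⟨x, rfl⟩ := QuotientGroup.mk'_surjective K x'
    rw [hT'] at hT0
    obtain ⟨s, hs, hsx⟩ := hT0
    have hsp : IsPGroup 2 (Subgroup.zpowers (x * b * x⁻¹)) := by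
      have := ((T.2.to_le (Subgroup.zpowers_le.2 (hBT hb))).map (MulAut.conj x).toMonoidHom)
      rwa [MonoidHom.map_zpowers] at this
    have hH : Subgroup.zpowers (x * b * x⁻¹) ≤ K ⊔ (T : Subgroup X) := by
      refine Subgroup.zpowers_le.2 (Subgroup.mem_sup_of_normal_left.2 ⟨x * b * x⁻¹ * s⁻¹, ?_, s, hs, by group⟩)
      rw [← QuotientGroup.eq_one_iff, ← QuotientGroup.mk'_apply, ← hπ, map_mul, map_inv, hsx,
        map_mul, map_mul, map_inv]
      exact mul_inv_cancel _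
    obtain ⟨h, hh, hhx⟩ := exists_conj_mem le_sup_right T.2
      (fun D hD hTD _ => T.3 hD hTD) hsp hH
    have h1 := hhx _ (Subgroup.mem_zpowers _)
    obtain ⟨k, hk, t, ht, rfl⟩ := Subgroup.mem_sup_of_normal_left.1 hh
    have hk' : π k = 1 := (QuotientGroup.eq_one_iff k).2 hk
    have h3 : k * t * x * b * (k * t * x)⁻¹ ∈ B := hclosed _ b hb (by
      have h4 : k * t * x * b * (k * t * x)⁻¹ = k * t * (x * b * x⁻¹) * (k * t)⁻¹ := by group
      rw [h4]; exact h1)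
    have h5 : π (k * t * x * b * (k * t * x)⁻¹) ∈ B' := Subgroup.mem_map_of_mem π h3
    have h6 : π (k * t * x * b * (k * t * x)⁻¹) = π t * (π x * π b * (π x)⁻¹) * (π t)⁻¹ := by
      simp only [map_mul, map_inv, hk']
      group
    rw [h6] at h5
    obtain ⟨b2, hb2, hb2'⟩ := h5
    have h7 : t⁻¹ * b2 * t⁻¹⁻¹ ∈ B := hclosed t⁻¹ b2 hb2 (mul_mem (mul_mem (inv_mem ht) (hBT hb2))
      (inv_mem (inv_mem ht)))
    refine ⟨_, h7, ?_⟩
    simp only [map_mul, map_inv, hb2']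
    group
    rfl
  -- `B̄ ≤ O₂`
  set U := B' ⊓ R with hU
  have hUn : ∀ x : X ⧸ K, ∀ u ∈ U, x * u * x⁻¹ ∈ U := fun x u hu => by
    have h1 : x * u * x⁻¹ ∈ R := (inferInstance : R.Normal).conj_mem u hu.2 x
    exact Subgroup.mem_inf.2 ⟨hcl x u hu.1 (hRT h1), h1⟩
  let St : Subgroup (X ⧸ K) :=
    { carrier := {x | (∀ u ∈ U, x * u * x⁻¹ = u) ∧ ∀ r ∈ R, x * r * x⁻¹ * r⁻¹ ∈ U}
      one_mem' := ⟨fun u _ => by group, fun r _ => by simp⟩
      mul_mem' := fun {x y} hx hy => ⟨fun u hu => by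
          rw [show x * y * u * (x * y)⁻¹ = x * (y * u * y⁻¹) * x⁻¹ by group, hy.1 u hu, hx.1 u hu],
        fun r hr => by
          have h1 := hy.2 r hr
          rw [show x * y * r * (x * y)⁻¹ * r⁻¹ =
            x * (y * r * y⁻¹ * r⁻¹) * x⁻¹ * (x * r * x⁻¹ * r⁻¹) by group, hx.1 _ h1]
          exact mul_mem h1 (hx.2 r hr)⟩
      inv_mem' := fun {x} hx => ⟨fun u hu => by
          conv_lhs => rw [← hx.1 u hu]
          group,
        fun r hr => by
          have h1 := inv_mem (hx.2 r hr)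
          have h2 : x⁻¹ * (x * r * x⁻¹ * r⁻¹)⁻¹ * x⁻¹⁻¹ = (x * r * x⁻¹ * r⁻¹)⁻¹ := by
            conv_lhs => rw [← hx.1 _ h1]
            group
          rw [show x⁻¹ * r * x⁻¹⁻¹ * r⁻¹ = x⁻¹ * (x * r * x⁻¹ * r⁻¹)⁻¹ * x⁻¹⁻¹ by group, h2]
          exact h1⟩ }
  haveI hSt : St.Normal := ⟨fun x hx g => ⟨fun u hu => by
      have h1 := hx.1 _ (hUn g⁻¹ u hu)
      calc g * x * g⁻¹ * u * (g * x * g⁻¹)⁻¹ = g * (x * (g⁻¹ * u * g⁻¹⁻¹) * x⁻¹) * g⁻¹ := by group
        _ = u := by rw [h1]; group,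
    fun r hr => by
      have h1 := hUn g _ (hx.2 _ ((inferInstance : R.Normal).conj_mem r hr g⁻¹))
      have h2 : g * x * g⁻¹ * r * (g * x * g⁻¹)⁻¹ * r⁻¹ =
          g * (x * (g⁻¹ * r * g⁻¹⁻¹) * x⁻¹ * (g⁻¹ * r * g⁻¹⁻¹)⁻¹) * g⁻¹ := by group
      rw [h2]; exact h1⟩⟩
  have hUsq : ∀ u ∈ U, u * u = 1 := fun u hu => hBel.sq u hu.1
  have hodd : ∀ x ∈ St, Odd (orderOf x) → x = 1 := by
    intro x hx ho
    have hxC : x ∈ Subgroup.centralizer (R : Set (X ⧸ K)) := by
      refine Subgroup.mem_centralizer_iff.2 fun r hr => ?_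
      set u := x * r * x⁻¹ * r⁻¹ with hu
      have huU : u ∈ U := hx.2 r hr
      have hpow : ∀ n : ℕ, x ^ n * r * (x ^ n)⁻¹ = u ^ n * r := by
        intro n
        induction n with
        | zero => simp
        | succ n ihn =>
          have h1 : x * u ^ n * x⁻¹ = u ^ n := hx.1 _ (pow_mem huU n)
          calc x ^ (n + 1) * r * (x ^ (n + 1))⁻¹ = x * (x ^ n * r * (x ^ n)⁻¹) * x⁻¹ := by
                rw [pow_succ']; group
            _ = x * (u ^ n * r) * x⁻¹ := by rw [ihn]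
            _ = x * u ^ n * x⁻¹ * (x * r * x⁻¹) := by group
            _ = u ^ n * (u * r) := by rw [h1, hu]; group
            _ = u ^ (n + 1) * r := by rw [← mul_assoc, ← pow_succ]
      have h1 := hpow (orderOf x)
      rw [pow_orderOf_eq_one] at h1
      have h2 : u ^ orderOf x = 1 := by simpa using h1
      have h3 : orderOf u ∣ 2 := orderOf_dvd_of_pow_eq_one (by rw [sq, hUsq u huU])
      have h4 : u = 1 := orderOf_eq_one_iff.1 (Nat.eq_one_of_dvd_coprimes
        (Nat.coprime_two_left.2 ho) h3 (orderOf_dvd_of_pow_eq_one h2))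
      rw [hu] at h4
      exact (mul_inv_eq_iff_eq_mul.1 (mul_inv_eq_one.1 h4)).symm
    obtain ⟨k, hk⟩ := hRp ⟨x, charP_quotient X hxC⟩
    exact orderOf_eq_one_iff.1 (Nat.eq_one_of_dvd_coprimes
      ((Nat.coprime_two_left.2 ho).pow_left k)
      (orderOf_dvd_of_pow_eq_one (congrArg Subtype.val hk)) dvd_rfl)
  have hSt2 : IsPGroup 2 St := fun x => by
    obtain ⟨k, m, hm, hk⟩ := Nat.exists_eq_two_pow_mul_odd (orderOf_pos (x : X ⧸ K)).ne'
    refine ⟨k, Subtype.ext (hodd _ (pow_mem x.2 _) ?_)⟩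
    rw [Subgroup.coe_pow] at *
    rw [orderOf_pow, hk, Nat.gcd_eq_right (dvd_mul_right _ _), Nat.mul_div_cancel_left _ (by positivity)]
    exact hm
  have hBSt : B' ≤ St := fun b hb => by
    refine ⟨fun u hu => by rw [hBel.comm b hb u hu.1, mul_inv_cancel_right], fun r hr => ?_⟩
    have h1 : b * r * b⁻¹ ∈ R := (inferInstance : R.Normal).conj_mem r hr b
    refine Subgroup.mem_inf.2 ⟨?_, mul_mem h1 (inv_mem hr)⟩
    rw [show b * r * b⁻¹ * r⁻¹ = b * (r * b⁻¹ * r⁻¹) by group]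
    refine mul_mem hb (hcl r b⁻¹ (inv_mem hb) ?_)
    have hBT' : B' ≤ (T' : Subgroup (X ⧸ K)) := hT' ▸ Subgroup.map_mono hBT
    exact mul_mem (mul_mem (hRT hr) (inv_mem (hBT' hb))) (inv_mem (hRT hr))
  have hBR : B' ≤ R := hBSt.trans (CfsgLib.Constrained.le_pCore hSt hSt2)
  have hBn : Subgroup.normalizer (B' : Set (X ⧸ K)) = ⊤ := by
    rw [eq_top_iff]
    exact fun x _ => mem_normalizer_of_forall fun b hb => hcl x b hb
      (hRT ((inferInstance : R.Normal).conj_mem b (hBR hb) x))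
  rw [← CfsgLib.Constrained.map_normalizer_eq (p := 2) K CfsgLib.Constrained.pPrimeCore_not_dvd B
    (T.2.to_le hBT)] at hBn
  rw [eq_top_iff]
  intro x _
  obtain ⟨n, hn, hnx⟩ : π x ∈ (Subgroup.normalizer (B : Set X)).map π := hBn ▸ Subgroup.mem_top _
  refine Subgroup.mem_sup_of_normal_left.2 ⟨x * n⁻¹, ?_, n, hn, by group⟩
  rw [← QuotientGroup.eq_one_iff, ← QuotientGroup.mk'_apply, map_mul, map_inv]
  exact mul_inv_eq_one.2 hnx.symm

end CfsgLib.LocalSFour60
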