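import Mathlib
import Cfsg.Agent.Eq.Def_Solvable
import Cfsg.Agent.Eq.Def_Local
import Cfsg.Agent.LocalSFour60.Basic
import Cfsg.Agent.Constrained.Local

/-!
The elementary abelian subgroup `V` of a Sylow 2-subgroup `S` controlling the fusion in `S` of every
solvable overgroup of `S`.
-/

set_option autoImplicit false

namespace CfsgLib.LocalSFour60

open Cfsg CfsgLib.SolvableSFour
open CfsgLib.SolvSignalizer (uCoreOf uCoreOf_le le_normalizer_uCoreOf not_dvd_uCoreOf)

theorem sqBound_to_map {X Y : Type*} [Group X] [Group Y] (f : X →* Y) (hf : Function.Injective f)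
    {S V : Subgroup X} (h : SqBound S V) : SqBound (S.map f) (V.map f) := by
  intro E hE hc hs
  have hEr : E ≤ f.range := fun y hy => by
    obtain ⟨x, -, rfl⟩ := hE hy
    exact ⟨x, rfl⟩
  have hmap : (E.comap f).map f = E := by
    rw [Subgroup.map_comap_eq, inf_eq_right.2 hEr]
  have hcent : ∀ z, f z ∈ Subgroup.centralizer ((V.map f : Subgroup Y) : Set Y) →
      z ∈ Subgroup.centralizer (V : Set X) := fun z hz =>
    Subgroup.mem_centralizer_iff.2 fun v hv => hf (by
      rw [map_mul, map_mul]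
      exact Subgroup.mem_centralizer_iff.1 hz _ ⟨v, hv, rfl⟩)
  have h1 := h (E.comap f)
    (fun x hx => by
      obtain ⟨x', hx', he⟩ := hE hx
      rwa [← hf he])
    (fun a ha b hb => hcent _ (by simpa using hc _ ha _ hb))
    (fun a ha => hcent _ (by simpa using hs _ ha))
  rwa [← Subgroup.card_map_of_injective hf, ← card_inf_centralizer_map f hf,
    ← card_inf_centralizer_map f hf, ← Subgroup.card_map_of_injective (K := V) hf, hmap] at h1

theorem map_top_subtype {X : Type*} [Group X] (R : Subgroup X) :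
    (⊤ : Subgroup R).map R.subtype = R := by
  rw [← MonoidHom.range_eq_map, Subgroup.range_subtype]

/-- The square bound only depends on `S` as an abstract group. -/
theorem sqBound_transfer {X Y : Type*} [Group X] [Group Y] (f : X →* Y) {S V : Subgroup X}
    (hVS : V ≤ S) (hf : Function.Injective (f.comp S.subtype)) :
    SqBound (S.map f) (V.map f) ↔ SqBound S V := by
  have hS : (⊤ : Subgroup S).map (f.comp S.subtype) = S.map f := by
    rw [← Subgroup.map_map, map_top_subtype]
  have hV : (V.subgroupOf S).map (f.comp S.subtype) = V.map f := by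
    rw [← Subgroup.map_map, Subgroup.map_subgroupOf_eq_of_le hVS]
  constructor
  · intro h
    have := sqBound_to_map _ S.subtype_injective
      (SqBound.of_map _ hf (by rw [hS, hV]; exact h) :
        SqBound (⊤ : Subgroup S) (V.subgroupOf S))
    rwa [map_top_subtype, Subgroup.map_subgroupOf_eq_of_le hVS] at this
  · intro h
    have := sqBound_to_map _ hf
      (SqBound.of_map _ S.subtype_injective
        (by rw [map_top_subtype, Subgroup.map_subgroupOf_eq_of_le hVS]; exact h) :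
        SqBound (⊤ : Subgroup S) (V.subgroupOf S))
    rwa [hS, hV] at this

variable {G : Type*} [Group G] [Finite G]

theorem exists_module
    (hsol : ∀ T : Subgroup G, IsPGroup 2 T → T ≠ ⊥ →
      Group.IsSolvable (Subgroup.normalizer (T : Set G)))
    (hS4 : ¬ Cfsg.Involves (Equiv.Perm (Fin 4)) G) (S : Sylow 2 G) (hS : (S : Subgroup G) ≠ ⊥) :
    ∃ V : Subgroup G, V ≤ (S : Subgroup G) ∧ Elem V ∧ V ≠ ⊥ ∧
      (S : Subgroup G) ≤ Subgroup.normalizer (V : Set G) ∧
      omegaCenter (S : Subgroup G) ≤ V ∧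
      ∀ L : Subgroup G, Group.IsSolvable L → (S : Subgroup G) ≤ L →
        ∀ n ∈ L, ∀ X : Set G, X ⊆ (S : Subgroup G) → (∀ x ∈ X, n * x * n⁻¹ ∈ (S : Subgroup G)) →
          Agree (Subgroup.normalizer (V : Set G)) X n := by
  classical
  haveI : Fact (Nat.Prime 2) := ⟨Nat.prime_two⟩
  set J := thompsonSubgroupOf 2 (S : Subgroup G) with hJ
  have hS2 : IsPGroup 2 (S : Subgroup G) := S.isPGroup'
  have hJne : J ≠ ⊥ := thompsonSubgroupOf_ne_bot hS2 hS
  have hJS : J ≤ (S : Subgroup G) := CfsgLib.LocalP.thompsonSubgroupOf_le _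
  have hJ2 : IsPGroup 2 J := hS2.to_le hJS
  set B := Subgroup.normalizer (J : Set G) with hB
  have hSB : (S : Subgroup G) ≤ B :=
    Subgroup.le_normalizer.trans (CfsgLib.LocalP.le_normalizer_thompsonSubgroupOf _)
  haveI hBsol : Group.IsSolvable B := hsol J hJ2 hJne
  set SB : Sylow 2 B := S.subtype hSB with hSBdef
  have hmapSB : (SB : Subgroup B).map B.subtype = (S : Subgroup G) := by
    rw [hSBdef, Sylow.coe_subtype, Subgroup.map_subgroupOf_eq_of_le hSB]
  -- the quotient of `B` by its odd core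
  set KB := pPrimeCore 2 B with hKB
  set π := QuotientGroup.mk' KB with hπ
  haveI : Group.IsSolvable (B ⧸ KB) :=
    Group.isSolvable_of_surjective (QuotientGroup.mk'_surjective KB)
  have hS4B : ¬ Cfsg.Involves (Equiv.Perm (Fin 4)) (B ⧸ KB) := fun h =>
    hS4 (CfsgLib.Offender.involves_of_subgroup B (involves_mono π (QuotientGroup.mk'_surjective KB) h))
  set S' : Sylow 2 (B ⧸ KB) := SB.mapSurjective (QuotientGroup.mk'_surjective KB)
  have hS' : (S' : Subgroup (B ⧸ KB)) = (SB : Subgroup B).map π := rfl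
  have hinjB : Function.Injective (π.comp (SB : Subgroup B).subtype) :=
    injective_mk_comp (SB : Subgroup B) SB.2
  have hinj' : ∀ a ∈ (SB : Subgroup B), ∀ b ∈ (SB : Subgroup B), π a = π b → a = b :=
    fun a ha b hb h => congrArg Subtype.val (@hinjB ⟨a, ha⟩ ⟨b, hb⟩ h)
  obtain ⟨hel0, hW0S, hO20⟩ := closure_props (charP_quotient B) S'
  set W0 := Subgroup.normalClosure (omegaCenter (S' : Subgroup (B ⧸ KB)) : Set (B ⧸ KB)) with hW0
  haveI hW0n : W0.Normal := Subgroup.normalClosure_normal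
  set V' := (SB : Subgroup B) ⊓ W0.comap π with hV'
  have hV'map : V'.map π = W0 := by
    refine le_antisymm (Subgroup.map_le_iff_le_comap.2 inf_le_right) fun w hw => ?_
    have hw' := hW0S hw
    rw [hS'] at hw'
    obtain ⟨s, hs, rfl⟩ := hw'
    exact ⟨s, Subgroup.mem_inf.2 ⟨hs, hw⟩, rfl⟩
  have hV'el : Elem V' :=
    ⟨fun a ha b hb => hinj' _ (mul_mem ha.1 hb.1) _ (mul_mem hb.1 ha.1) (by
      rw [map_mul, map_mul]; exact hel0.comm _ ha.2 _ hb.2),
    fun a ha => hinj' _ (mul_mem ha.1 ha.1) _ (one_mem _) (by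
      rw [map_mul, map_one]; exact hel0.sq _ ha.2)⟩
  set V := V'.map B.subtype with hV
  have hVS : V ≤ (S : Subgroup G) := by rw [← hmapSB]; exact Subgroup.map_mono inf_le_left
  have hZV : omegaCenter (S : Subgroup G) ≤ V := by
    rw [← hmapSB, omegaCenter_map _ B.subtype_injective]
    refine Subgroup.map_mono (le_inf (omegaCenter_le _) ?_)
    rw [← Subgroup.map_le_iff_le_comap, ← map_omegaCenter π _ hinjB, ← hS']
    exact Subgroup.subset_normalClosure
  have hVne : V ≠ ⊥ := fun h => omegaCenter_ne_bot hS2 hS (le_bot_iff.1 (h ▸ hZV))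
  have hJB : (thompsonSubgroupOf 2 (SB : Subgroup B)).map B.subtype = J := by
    rw [hJ, ← hmapSB, CfsgLib.LocalP.thompsonSubgroupOf_map _ B.subtype_injective]
  have hJV : ∀ j ∈ J, ∀ v ∈ V, j * v = v * j := by
    intro j hj v hv
    rw [← hJB] at hj
    obtain ⟨j, hj', rfl⟩ := hj
    obtain ⟨v, hv', rfl⟩ := hv
    have hJ'n : ((thompsonSubgroupOf 2 (SB : Subgroup B)).map π).Normal := by
      refine Subgroup.Normal.map ⟨fun a ha g => ?_⟩ π (QuotientGroup.mk'_surjective KB)
      have h1 : (g : G) * a * (g : G)⁻¹ ∈ J :=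
        conj_mem_of_mem_normalizer g.2 (hJB ▸ ⟨a, ha, rfl⟩)
      rw [← hJB] at h1
      obtain ⟨a', ha', he⟩ := h1
      rwa [show g * a * g⁻¹ = a' from Subtype.ext he.symm]
    have hW0C : W0 ≤ Subgroup.centralizer
        (((thompsonSubgroupOf 2 (SB : Subgroup B)).map π : Subgroup (B ⧸ KB)) : Set (B ⧸ KB)) := by
      refine Subgroup.normalClosure_le_normal fun z hz => Subgroup.mem_centralizer_iff.2 ?_
      rintro _ ⟨a, ha, rfl⟩
      exact Subgroup.mem_centralizer_iff.1 (mem_omegaCenter.1 hz).1.2 _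
        (hS' ▸ ⟨a, CfsgLib.LocalP.thompsonSubgroupOf_le _ ha, rfl⟩)
    have h1 := Subgroup.mem_centralizer_iff.1 (hW0C hv'.2) _ ⟨j, hj', rfl⟩
    rw [← map_mul, ← map_mul] at h1
    have hjS := CfsgLib.LocalP.thompsonSubgroupOf_le _ hj'
    exact congrArg Subtype.val (hinj' _ (mul_mem hjS hv'.1) _ (mul_mem hv'.1 hjS) h1)
  have hSN : (S : Subgroup G) ≤ Subgroup.normalizer (V : Set G) := by
    intro s hs
    refine mem_normalizer_of_forall ?_
    rintro _ ⟨v, hv, rfl⟩
    refine ⟨(⟨s, hSB hs⟩ : B) * v * (⟨s, hSB hs⟩ : B)⁻¹, Subgroup.mem_inf.2 ⟨?_, ?_⟩, rfl⟩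
    · exact mul_mem (mul_mem hs hv.1) (inv_mem hs)
    · exact (inferInstance : (W0.comap π).Normal).conj_mem v hv.2 _
  have hbd : SqBound (S : Subgroup G) V := by
    have h0 : SqBound ((SB : Subgroup B).map π) (V'.map π) := by
      intro E _ hc hs
      rw [hV'map] at hc hs ⊢
      exact square_bound hS4B W0 hel0 hO20 E hc hs
    have h1 : SqBound (SB : Subgroup B) V' := (sqBound_transfer π inf_le_left hinjB).1 h0
    have h2 := sqBound_to_map B.subtype B.subtype_injective h1
    rwa [hmapSB] at h2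
  refine ⟨V, hVS, hV'el.map _, hVne, hSN, hZV, fun L hL hSL n hn X hX hnX => ?_⟩
  -- the quotient of `L` by its odd core
  haveI := hL
  set KL := pPrimeCore 2 L with hKL
  set q := QuotientGroup.mk' KL with hq
  haveI : Group.IsSolvable (L ⧸ KL) :=
    Group.isSolvable_of_surjective (QuotientGroup.mk'_surjective KL)
  have hS4L : ¬ Cfsg.Involves (Equiv.Perm (Fin 4)) (L ⧸ KL) := fun h =>
    hS4 (CfsgLib.Offender.involves_of_subgroup L (involves_mono q (QuotientGroup.mk'_surjective KL) h))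
  set SL : Sylow 2 L := S.subtype hSL with hSLdef
  have hmapSL : (SL : Subgroup L).map L.subtype = (S : Subgroup G) := by
    rw [hSLdef, Sylow.coe_subtype, Subgroup.map_subgroupOf_eq_of_le hSL]
  have hinjL : Function.Injective (q.comp (SL : Subgroup L).subtype) :=
    injective_mk_comp (SL : Subgroup L) SL.2
  set VL := V.subgroupOf L with hVL
  have hVLS : VL ≤ (SL : Subgroup L) := fun v hv => by
    rw [hSLdef, Sylow.coe_subtype]; exact hVS hv
  have hmapVL : VL.map L.subtype = V := Subgroup.map_subgroupOf_eq_of_le (hVS.trans hSL)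
  set SQ : Sylow 2 (L ⧸ KL) := SL.mapSurjective (QuotientGroup.mk'_surjective KL)
  have hSQ : (SQ : Subgroup (L ⧸ KL)) = (SL : Subgroup L).map q := rfl
  have hJL : (thompsonSubgroupOf 2 (SL : Subgroup L)).map L.subtype = J := by
    rw [hJ, ← hmapSL, CfsgLib.LocalP.thompsonSubgroupOf_map _ L.subtype_injective]
  have hJQ : thompsonSubgroupOf 2 (SQ : Subgroup (L ⧸ KL)) =
      (thompsonSubgroupOf 2 (SL : Subgroup L)).map q := by
    rw [hSQ, map_thompson q _ hinjL]
  have hndvd : ¬ 2 ∣ Nat.card KL := CfsgLib.Constrained.pPrimeCore_not_dvd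
  have hVel : Elem VL :=
    ⟨fun a ha b hb => Subtype.ext ((hV'el.map _).comm _ ha _ hb),
      fun a ha => Subtype.ext ((hV'el.map _).sq _ ha)⟩
  have htop : Subgroup.normalizer ((VL.map q : Subgroup (L ⧸ KL)) : Set (L ⧸ KL)) = ⊤ := by
    refine normal_of_sqBound _ rfl hS4L (charP_quotient L) SQ _ ?_ (hVel.map q) ?_ ?_ ?_ ?_
    · rw [hSQ]; exact Subgroup.map_mono hVLS
    · rw [hJQ]
      rintro _ ⟨j, hj, rfl⟩ _ ⟨v, hv, rfl⟩
      rw [← map_mul, ← map_mul]
      exact congrArg q (Subtype.ext (hJV _ (hJL ▸ ⟨j, hj, rfl⟩) _ hv))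
    · rw [hSQ]
      refine (Subgroup.map_mono ?_).trans (Subgroup.le_normalizer_map q)
      intro s hs
      exact mem_normalizer_of_forall fun v hv =>
        conj_mem_of_mem_normalizer (hSN (hmapSL ▸ ⟨s, hs, rfl⟩ : (s : G) ∈ (S : Subgroup G))) hv
    · rw [hJQ, ← CfsgLib.Constrained.map_normalizer_eq (p := 2) KL hndvd _
        (SL.2.to_le (CfsgLib.LocalP.thompsonSubgroupOf_le _))]
      rintro _ ⟨m, hm, rfl⟩
      refine mem_normalizer_of_forall ?_
      rintro _ ⟨v, hv, rfl⟩
      have hmB : (m : G) ∈ B := mem_normalizer_of_forall fun j hj => by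
        rw [← hJL] at hj ⊢
        obtain ⟨j, hj', rfl⟩ := hj
        exact ⟨m * j * m⁻¹, conj_mem_of_mem_normalizer hm hj', rfl⟩
      obtain ⟨w, hw, hwv⟩ := (show (v : G) ∈ V from hv)
      have h1 : π ((⟨m, hmB⟩ : B) * w * (⟨m, hmB⟩ : B)⁻¹) ∈ W0 := by
        rw [map_mul, map_mul, map_inv]
        exact hW0n.conj_mem _ hw.2 _
      rw [← hV'map] at h1
      obtain ⟨w', hw', he⟩ := h1
      set o : B := (⟨m, hmB⟩ : B) * w * (⟨m, hmB⟩ : B)⁻¹ * w'⁻¹ with ho
      have hoK : o ∈ KB := by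
        rw [← QuotientGroup.eq_one_iff, ← QuotientGroup.mk'_apply, ← hπ, ho, map_mul, map_inv, he]
        exact mul_inv_cancel _
      have hw'L : (w' : G) ∈ L := hSL (hVS ⟨w', hw', rfl⟩)
      have hoL : (o : G) ∈ L := by
        have : (o : G) = m * v * (m : G)⁻¹ * (w' : G)⁻¹ := by
          rw [ho]; simp [← hwv]
        rw [this]
        exact mul_mem (mul_mem (mul_mem m.2 v.2) (inv_mem m.2)) (inv_mem hw'L)
      -- elements of `O(B)` in `L` lie in `O(L)`
      have hQle : (uCoreOf 2 B).subgroupOf L ≤ KL := by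
        refine CfsgLib.Constrained.le_pPrimeCore_of_centralizes_of_normalized (charP_quotient L)
          (P := thompsonSubgroupOf 2 (SL : Subgroup L))
          (SL.2.to_le (CfsgLib.LocalP.thompsonSubgroupOf_le _)) ?_ ?_ ?_
        · intro hd
          apply not_dvd_uCoreOf 2 B
          refine hd.trans ?_
          rw [← Subgroup.card_map_of_injective L.subtype_injective]
          exact Subgroup.card_dvd_of_le (Subgroup.map_le_iff_le_comap.2 le_rfl)
        · intro x hx
          refine Subgroup.mem_centralizer_iff.2 fun j hj => Subtype.ext ?_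
          have hjJ : (j : G) ∈ J := hJL ▸ ⟨j, hj, rfl⟩
          have hxB : (x : G) ∈ B := uCoreOf_le 2 B hx
          have h2 : (x : G) * j * (x : G)⁻¹ ∈ (S : Subgroup G) :=
            hJS (conj_mem_of_mem_normalizer hxB hjJ)
          have h3 := agree_core hS2 hSB hx (hJS hjJ) h2
          show (j : G) * x = x * j
          exact (mul_inv_eq_iff_eq_mul.1 h3).symm
        · intro x hx
          refine mem_normalizer_of_forall fun y hy => ?_
          have hxB : (x : G) ∈ B := mem_normalizer_of_forall fun j hj => by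
            rw [← hJL] at hj ⊢
            obtain ⟨j, hj', rfl⟩ := hj
            exact ⟨x * j * x⁻¹, by
              rw [← Subgroup.mem_centralizer_iff.1 hx j hj', mul_inv_cancel_right]; exact hj', rfl⟩
          exact conj_mem_of_mem_normalizer (le_normalizer_uCoreOf 2 B hxB) hy
      have h2 : q (⟨o, hoL⟩ : L) = 1 :=
        (QuotientGroup.eq_one_iff _).2 (hQle ⟨o, hoK, rfl⟩)
      refine ⟨⟨w', hw'L⟩, ⟨w', hw', rfl⟩, ?_⟩
      rw [show (⟨o, hoL⟩ : L) = m * v * m⁻¹ * (⟨w', hw'L⟩ : L)⁻¹ from Subtype.ext (by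
        show (o : G) = _; rw [ho]; simp [← hwv]), map_mul, map_inv, mul_inv_eq_one] at h2
      rw [← h2, map_mul, map_mul, map_inv]
    · rw [hSQ, sqBound_transfer q hVLS hinjL]
      exact SqBound.of_map L.subtype L.subtype_injective (by rw [hmapSL, hmapVL]; exact hbd)
  rw [← CfsgLib.Constrained.map_normalizer_eq (p := 2) KL hndvd VL (SL.2.to_le hVLS)] at htop
  have hLle : L ≤ uCoreOf 2 L ⊔ (L ⊓ Subgroup.normalizer (V : Set G)) := by
    intro l hl
    obtain ⟨m, hm, hml⟩ : q ⟨l, hl⟩ ∈ (Subgroup.normalizer (VL : Set L)).map q :=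
      htop ▸ Subgroup.mem_top _
    have h1 : (⟨l, hl⟩ : L) * m⁻¹ ∈ KL := by
      rw [← QuotientGroup.eq_one_iff, ← QuotientGroup.mk'_apply, ← hq, map_mul, map_inv, hml,
        mul_inv_cancel]
    have h2 : (l * (m : G)⁻¹) ∈ uCoreOf 2 L := ⟨_, h1, rfl⟩
    rw [show l = l * (m : G)⁻¹ * m by group]
    refine mul_mem (Subgroup.mem_sup_left h2) (Subgroup.mem_sup_right (Subgroup.mem_inf.2 ⟨m.2, ?_⟩))
    exact mem_normalizer_of_forall fun v hv =>
      conj_mem_of_mem_normalizer hm (m := ⟨v, hSL (hVS hv)⟩) hv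
  obtain ⟨c, hc, j, hj, rfl, hjX⟩ := split (uCoreOf_le 2 L) (le_normalizer_uCoreOf 2 L) inf_le_left
    hLle hS2 (le_inf hSL hSN) (fun D hD hRD _ => S.3 hD hRD) hn hX hnX
  refine ⟨j, hj.2, fun x hx => ?_⟩
  have h1 : c * (j * x * j⁻¹) * c⁻¹ = c * j * x * (c * j)⁻¹ := by group
  have h2 := agree_core hS2 hSL hc (hjX x hx) (h1 ▸ hnX x hx)
  rw [← h1, h2]

end CfsgLib.LocalSFour60
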