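import Mathlib
import Cfsg.Agent.Eq.Def_Local
import Cfsg.Agent.LocalSFour60.Module

/-!
A normalizer `M` controlling the fusion in `S` of the solvable overgroups of `S` controls all the
fusion in `S`, when all 2-local subgroups are solvable without sections of the symmetric group of
degree four.
-/

set_option autoImplicit false

namespace CfsgLib.LocalSFour60

open Cfsg CfsgLib.SolvableSFour
open CfsgLib.SolvSignalizer (uCoreOf uCoreOf_le le_normalizer_uCoreOf not_dvd_uCoreOf)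

variable {G : Type*} [Group G] [Finite G]

theorem Agree.of_mem {M : Subgroup G} {X : Set G} {g : G} (hg : g ∈ M) : Agree M X g :=
  ⟨g, hg, fun _ _ => rfl⟩

theorem Agree.of_fix {M : Subgroup G} {X : Set G} {g : G} (hg : ∀ x ∈ X, g * x * g⁻¹ = x) :
    Agree M X g :=
  ⟨1, one_mem M, fun x hx => by rw [hg x hx]; group⟩

/-- The image of a Sylow subgroup of `L` is a maximal 2-subgroup of `L`. -/
theorem sylow_map_max {L : Subgroup G} (RL : Sylow 2 L) (D : Subgroup G) (hD : IsPGroup 2 D)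
    (hRD : (RL : Subgroup L).map L.subtype ≤ D) (hDL : D ≤ L) :
    D = (RL : Subgroup L).map L.subtype := by
  have h := RL.3 (hD.comap_of_injective L.subtype L.subtype_injective)
    (Subgroup.map_le_iff_le_comap.1 hRD)
  rw [← h, Subgroup.map_comap_eq, Subgroup.range_subtype, inf_eq_right.2 hDL]

theorem card_lt_inf_normalizer {D R : Subgroup G} (hR : IsPGroup 2 R) (hlt : D < R) :
    Nat.card D < Nat.card ↥(R ⊓ Subgroup.normalizer (D : Set G)) := by
  haveI : Fact (Nat.Prime 2) := ⟨Nat.prime_two⟩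
  have h := CfsgLib.Signalizer.lt_normalizer_inf hR hlt
  rw [inf_comm] at h
  exact lt_of_le_of_ne (Subgroup.card_le_of_le h.le)
    fun e => h.ne (Subgroup.eq_of_le_of_card_ge h.le e.ge)

section Main

variable (hsol : ∀ T : Subgroup G, IsPGroup 2 T → T ≠ ⊥ →
    Group.IsSolvable (Subgroup.normalizer (T : Set G)))
  (hS4 : ¬ Cfsg.Involves (Equiv.Perm (Fin 4)) G) (S : Sylow 2 G) (M : Subgroup G)
  (hmod : ∀ L : Subgroup G, Group.IsSolvable L → (S : Subgroup G) ≤ L →
    ∀ n ∈ L, ∀ X : Set G, X ⊆ (S : Subgroup G) → (∀ x ∈ X, n * x * n⁻¹ ∈ (S : Subgroup G)) →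
      Agree M X n)

include hsol hS4 hmod

/-- Fusion inside the 2-local subgroups meeting `S`. -/
theorem local_agree : ∀ L : Subgroup G, Cfsg.IsTwoLocal L → (S : Subgroup G) ⊓ L ≠ ⊥ →
    (∀ n ∈ L, ∀ X : Set G, X ⊆ ((S : Subgroup G) ⊓ L : Subgroup G) →
        (∀ x ∈ X, n * x * n⁻¹ ∈ (S : Subgroup G)) → Agree M X n) ∧
      ∀ D : Subgroup G, D ≤ L → IsPGroup 2 D → ∀ X : Set G, X ⊆ D → X ⊆ (S : Subgroup G) →
        ∃ g : G, (∀ d ∈ D, g * d * g⁻¹ ∈ (S : Subgroup G)) ∧ Agree M X g := by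
  classical
  haveI : Fact (Nat.Prime 2) := ⟨Nat.prime_two⟩
  intro L
  induction hk : Nat.card ↥(S : Subgroup G) - Nat.card ↥((S : Subgroup G) ⊓ L)
    using Nat.strong_induction_on generalizing L with
  | _ k ih =>
  intro hL hne
  set P := (S : Subgroup G) ⊓ L with hP
  have hS2 : IsPGroup 2 (S : Subgroup G) := S.isPGroup'
  have hP2 : IsPGroup 2 P := hS2.to_le inf_le_left
  have hstep : ∀ L' : Subgroup G, Cfsg.IsTwoLocal L' →
      Nat.card P < Nat.card ↥((S : Subgroup G) ⊓ L') →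
      (∀ n ∈ L', ∀ X : Set G, X ⊆ ((S : Subgroup G) ⊓ L' : Subgroup G) →
          (∀ x ∈ X, n * x * n⁻¹ ∈ (S : Subgroup G)) → Agree M X n) ∧
        ∀ D : Subgroup G, D ≤ L' → IsPGroup 2 D → ∀ X : Set G, X ⊆ D → X ⊆ (S : Subgroup G) →
          ∃ g : G, (∀ d ∈ D, g * d * g⁻¹ ∈ (S : Subgroup G)) ∧ Agree M X g := by
    intro L' hL' hlt
    refine ih _ ?_ L' rfl hL' fun h0 => ?_
    · have := Subgroup.card_le_of_le (inf_le_left : (S : Subgroup G) ⊓ L' ≤ S)
      omega
    · rw [h0, Subgroup.card_bot] at hlt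
      have := Nat.card_pos (α := P)
      omega
  obtain ⟨T, hT2, hTne, hLT⟩ := hL
  haveI hLsol : Group.IsSolvable L := hLT ▸ hsol T hT2 hTne
  obtain ⟨RL, hRL⟩ := (hP2.comap_of_injective L.subtype L.subtype_injective).exists_le_sylow
  set R := (RL : Subgroup L).map L.subtype with hR
  have hR2 : IsPGroup 2 R := RL.isPGroup'.map _
  have hPR : P ≤ R := fun z hz => ⟨⟨z, hz.2⟩, hRL hz, rfl⟩
  have hRLle : R ≤ L := Subgroup.map_subtype_le _
  by_cases hRS : R ≤ (S : Subgroup G)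
  · have hRP : R = P := le_antisymm (le_inf hRS hRLle) hPR
    have hA : ∀ n ∈ L, ∀ X : Set G, X ⊆ (P : Subgroup G) →
        (∀ x ∈ X, n * x * n⁻¹ ∈ (S : Subgroup G)) → Agree M X n := by
      intro n hn X hX hnX
      have hXL : ∀ x ∈ X, x ∈ L := fun x hx => (hX hx).2
      have hnXR : ∀ x ∈ X, n * x * n⁻¹ ∈ R := fun x hx => hRP ▸ Subgroup.mem_inf.2
        ⟨hnX x hx, mul_mem (mul_mem hn (hXL x hx)) (inv_mem hn)⟩
      have hS4L : ¬ Cfsg.Involves (Equiv.Perm (Fin 4)) L := fun h =>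
        hS4 (CfsgLib.Offender.involves_of_subgroup L h)
      obtain ⟨C, hCn, hCle, hCN⟩ := exists_factor hS4L RL
      set N := (Subgroup.normalizer (thompsonSubgroupOf 2 (RL : Subgroup L) : Set L)).map L.subtype
      have hCL : C.map L.subtype ≤ L := Subgroup.map_subtype_le _
      have hLC : L ≤ Subgroup.normalizer ((C.map L.subtype : Subgroup G) : Set G) := fun l hl =>
        mem_normalizer_of_forall (by
          rintro _ ⟨c, hc, rfl⟩
          exact ⟨⟨l, hl⟩ * c * ⟨l, hl⟩⁻¹, hCn.conj_mem c hc _, rfl⟩)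
      have hLle : L ≤ C.map L.subtype ⊔ N := by
        rw [← Subgroup.map_sup, hCN, map_top_subtype]
      have hRN : R ≤ N := Subgroup.map_mono
        (Subgroup.le_normalizer.trans (CfsgLib.LocalP.le_normalizer_thompsonSubgroupOf _))
      obtain ⟨c, hc, j, hj, rfl, hjX⟩ := split hCL hLC (Subgroup.map_subtype_le _) hLle hR2 hRN
        (sylow_map_max RL) hn (fun x hx => hRP ▸ hX hx) hnXR
      have hJR : (thompsonSubgroupOf 2 (RL : Subgroup L)).map L.subtype =
          thompsonSubgroupOf 2 R := by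
        rw [hR, CfsgLib.LocalP.thompsonSubgroupOf_map _ L.subtype_injective]
      have hjN : j ∈ Subgroup.normalizer (thompsonSubgroupOf 2 R : Set G) := by
        obtain ⟨m, hm, rfl⟩ := hj
        rw [← hJR]
        exact mem_normalizer_of_forall (by
          rintro _ ⟨z, hz, rfl⟩
          exact ⟨m * z * m⁻¹, conj_mem_of_mem_normalizer hm hz, rfl⟩)
      have hRne : R ≠ ⊥ := hRP ▸ hne
      have hJ2 : IsPGroup 2 (thompsonSubgroupOf 2 R) :=
        hR2.to_le (CfsgLib.LocalP.thompsonSubgroupOf_le _)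
      have hJne := thompsonSubgroupOf_ne_bot hR2 hRne
      have hRJ : R ≤ Subgroup.normalizer (thompsonSubgroupOf 2 R : Set G) :=
        Subgroup.le_normalizer.trans (CfsgLib.LocalP.le_normalizer_thompsonSubgroupOf _)
      have h1 : Agree M X j := by
        rcases eq_or_lt_of_le hRS with hEq | hlt
        · exact hmod _ (hsol _ hJ2 hJne) (hEq ▸ hRJ) j hjN X (fun x hx => (hX hx).1)
            fun x hx => hRS (hjX x hx)
        · refine (hstep _ ⟨_, hJ2, hJne, rfl⟩ ?_).1 j hjN X ?_ fun x hx => hRS (hjX x hx)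
          · rw [← hRP]
            exact lt_of_lt_of_le (card_lt_inf_normalizer hS2 hlt) (Subgroup.card_le_of_le
              (inf_le_inf_left _ (CfsgLib.LocalP.le_normalizer_thompsonSubgroupOf _)))
          · exact fun x hx => Subgroup.mem_inf.2 ⟨(hX hx).1, hRJ (hRP ▸ hX hx)⟩
      refine h1.mul ?_
      set Y := (fun x => j * x * j⁻¹) '' X
      have hYR : Y ⊆ (R : Subgroup G) := by rintro _ ⟨x, hx, rfl⟩; exact hjX x hx
      have hcY : ∀ y ∈ Y, c * y * c⁻¹ ∈ R := by
        rintro _ ⟨x, hx, rfl⟩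
        rw [show c * (j * x * j⁻¹) * c⁻¹ = c * j * x * (c * j)⁻¹ by group]
        exact hnXR x hx
      set N' := (Subgroup.centralizer (omegaCenter (RL : Subgroup L) : Set L)).map L.subtype
      set L' := uCoreOf 2 L ⊔ N' with hL'
      have hL'L : L' ≤ L := sup_le (uCoreOf_le 2 L) (Subgroup.map_subtype_le _)
      have hcL' : c ∈ L' := by
        refine (Subgroup.map_mono hCle).trans ?_ hc
        rw [Subgroup.map_sup]
        exact le_rfl
      have hRN' : R ≤ N' := Subgroup.map_mono fun r hr => Subgroup.mem_centralizer_iff.2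
        fun z hz => (Subgroup.mem_centralizer_iff.1 (mem_omegaCenter.1 hz).1.2 r hr).symm
      obtain ⟨o, ho, i, hi, rfl, hiY⟩ := split (L := L') le_sup_left
        (hL'L.trans (le_normalizer_uCoreOf 2 L)) le_sup_right le_rfl hR2 hRN'
        (fun D hD hRD hDL => sylow_map_max RL D hD hRD (hDL.trans hL'L)) hcL' hYR hcY
      have h2 : ∀ y ∈ Y, o * i * y * (o * i)⁻¹ = i * y * i⁻¹ := fun y hy => by
        have h3 : o * (i * y * i⁻¹) * o⁻¹ = o * i * y * (o * i)⁻¹ := by group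
        rw [← h3, agree_core hR2 hRLle ho (hiY y hy) (h3 ▸ hcY y hy)]
      set Z := omegaCenter (S : Subgroup G)
      have hTR : T ≤ R := fun x hx => by
        subst hLT
        exact ⟨⟨x, Subgroup.le_normalizer hx⟩, CfsgLib.CharP.pCore_le_sylow RL
          (CfsgLib.Constrained.le_pCore Subgroup.normal_in_normalizer
            (hT2.comap_of_injective _ (Subgroup.subtype_injective _)) hx), rfl⟩
      have hiZ : i ∈ Subgroup.centralizer (Z : Set G) := by
        refine Subgroup.mem_centralizer_iff.2 fun z hz => ?_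
        obtain ⟨hzS, hz2⟩ := mem_omegaCenter.1 hz
        have hzL : z ∈ L := hLT ▸ mem_normalizer_of_forall fun x hx => by
          rw [← Subgroup.mem_centralizer_iff.1 hzS.2 x (hRS (hTR hx)), mul_inv_cancel_right]
          exact hx
        obtain ⟨z', hz', rfl⟩ : z ∈ R := hRP ▸ Subgroup.mem_inf.2 ⟨hzS.1, hzL⟩
        obtain ⟨i', hi', rfl⟩ := hi
        have hz'' : z' ∈ omegaCenter (RL : Subgroup L) := mem_omegaCenter.2
          ⟨⟨hz', Subgroup.mem_centralizer_iff.2 fun r hr => Subtype.ext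
            (Subgroup.mem_centralizer_iff.1 hzS.2 _ (hRS ⟨r, hr, rfl⟩))⟩, Subtype.ext hz2⟩
        exact congrArg Subtype.val (Subgroup.mem_centralizer_iff.1 hi' z' hz'')
      have hSZ : (S : Subgroup G) ≤ Subgroup.centralizer (Z : Set G) := fun s hs =>
        Subgroup.mem_centralizer_iff.2 fun z hz =>
          (Subgroup.mem_centralizer_iff.1 (mem_omegaCenter.1 hz).1.2 s hs).symm
      haveI : Group.IsSolvable (Subgroup.normalizer (Z : Set G)) :=
        hsol Z (hS2.to_le (omegaCenter_le _))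
          (omegaCenter_ne_bot hS2 fun h => hne (le_bot_iff.1 (h ▸ inf_le_left)))
      have hZsol : Group.IsSolvable (Subgroup.centralizer (Z : Set G)) :=
        Group.isSolvable_of_isSolvable_injective
          (Subgroup.inclusion_injective (Subgroup.centralizer_le_normalizer _))
      obtain ⟨m, hm, hmY⟩ := hmod _ hZsol hSZ i hiZ Y (fun y hy => hRS (hYR hy))
        fun y hy => hRS (hiY y hy)
      exact ⟨m, hm, fun y hy => (hmY y hy).trans (h2 y hy).symm⟩
    refine ⟨hA, fun D hDL hD X hXD hXS => ?_⟩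
    obtain ⟨l, hl, hlD⟩ := exists_conj_mem hRLle hR2 (sylow_map_max RL) hD hDL
    exact ⟨l, fun d hd => hRS (hlD d hd), hA l hl X
      (fun x hx => Subgroup.mem_inf.2 ⟨hXS hx, hDL (hXD hx)⟩) fun x hx => hRS (hlD x (hXD hx))⟩
  · have hPltR : P < R := lt_of_le_of_ne hPR fun e => hRS (e ▸ inf_le_left)
    have hPltS : P < (S : Subgroup G) := by
      refine lt_of_le_of_ne inf_le_left fun e => hRS ?_
      rw [← S.3 hR2 (e ▸ hPR)]
    set D' := R ⊓ Subgroup.normalizer (P : Set G) with hD'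
    have hPD' : P ≤ D' := le_inf hPR Subgroup.le_normalizer
    obtain ⟨g, hgD, hgP⟩ := (hstep _ ⟨P, hP2, hne, rfl⟩ (card_lt_inf_normalizer hS2 hPltS)).2
      D' inf_le_right (hR2.to_le inf_le_left) (P : Set G) hPD'
      (fun x hx => (Subgroup.mem_inf.1 hx).1)
    set L' := L.map (MulAut.conj g).toMonoidHom with hL'
    have hL' : Cfsg.IsTwoLocal L' := isTwoLocal_map ⟨T, hT2, hTne, hLT⟩ g
    obtain ⟨hA', hB'⟩ := hstep L' hL' (lt_of_lt_of_le (card_lt_inf_normalizer hR2 hPltR) (by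
      rw [← Subgroup.card_map_of_injective (f := (MulAut.conj g).toMonoidHom)
        (K := R ⊓ Subgroup.normalizer (P : Set G)) (MulAut.conj g).injective]
      refine Subgroup.card_le_of_le ?_
      rintro _ ⟨d, hd, rfl⟩
      exact Subgroup.mem_inf.2 ⟨hgD d hd, ⟨d, hRLle hd.1, rfl⟩⟩))
    have hgX : ∀ x ∈ P, g * x * g⁻¹ ∈ (S : Subgroup G) ⊓ L' := fun x hx =>
      Subgroup.mem_inf.2 ⟨hgD x (hPD' hx), ⟨x, (Subgroup.mem_inf.1 hx).2, rfl⟩⟩
    refine ⟨fun n hn X hX hnX => ?_, fun D hDL hD X hXD hXS => ?_⟩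
    · have hnP : ∀ x ∈ X, n * x * n⁻¹ ∈ P := fun x hx =>
        Subgroup.mem_inf.2 ⟨hnX x hx, mul_mem (mul_mem hn (hX hx).2) (inv_mem hn)⟩
      have h1 : Agree M ((fun x => g * x * g⁻¹) '' X) (g * n * g⁻¹) := by
        refine hA' _ ⟨n, hn, rfl⟩ _ ?_ ?_
        · rintro _ ⟨x, hx, rfl⟩; exact hgX x (hX hx)
        · rintro _ ⟨x, hx, rfl⟩
          show g * n * g⁻¹ * (g * x * g⁻¹) * (g * n * g⁻¹)⁻¹ ∈ _
          rw [show g * n * g⁻¹ * (g * x * g⁻¹) * (g * n * g⁻¹)⁻¹ = g * (n * x * n⁻¹) * g⁻¹ by group]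
          exact (hgX _ (hnP x hx)).1
      have h2 := ((hgP.mono (Y := X) hX).mul h1)
      have h3 : Agree M ((fun x => g * n * g⁻¹ * g * x * (g * n * g⁻¹ * g)⁻¹) '' X) g⁻¹ := by
        refine hgP.inv.mono ?_
        rintro _ ⟨x, hx, rfl⟩
        exact ⟨n * x * n⁻¹, hnP x hx, by group⟩
      have h4 := h2.mul h3
      rwa [show g⁻¹ * (g * n * g⁻¹ * g) = n by group] at h4
    · have hXP : ∀ x ∈ X, x ∈ P := fun x hx => Subgroup.mem_inf.2 ⟨hXS hx, hDL (hXD hx)⟩
      obtain ⟨g', hg'D, hg'X⟩ := hB' (D.map (MulAut.conj g).toMonoidHom) (Subgroup.map_mono hDL)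
        (hD.map _) ((fun x => g * x * g⁻¹) '' X)
        (by rintro _ ⟨x, hx, rfl⟩; exact ⟨x, hXD hx, rfl⟩)
        (by rintro _ ⟨x, hx, rfl⟩; exact (hgX x (hXP x hx)).1)
      refine ⟨g' * g, fun d hd => ?_, (hgP.mono (Y := X) hXP).mul hg'X⟩
      rw [show g' * g * d * (g' * g)⁻¹ = g' * (g * d * g⁻¹) * g'⁻¹ by group]
      exact hg'D _ ⟨d, hd, rfl⟩

/-- `M` controls fusion in `S`. -/
theorem global_agree : ∀ (X : Subgroup G), X ≤ (S : Subgroup G) → ∀ g : G,
    (∀ x ∈ X, g * x * g⁻¹ ∈ (S : Subgroup G)) → Agree M (X : Set G) g := by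
  classical
  haveI : Fact (Nat.Prime 2) := ⟨Nat.prime_two⟩
  intro X
  induction hk : Nat.card ↥(S : Subgroup G) - Nat.card ↥X
    using Nat.strong_induction_on generalizing X with
  | _ k ih =>
  intro hX g hg
  have hS2 : IsPGroup 2 (S : Subgroup G) := S.isPGroup'
  by_cases hbot : X = ⊥
  · refine Agree.of_fix fun x hx => ?_
    rw [show x = 1 from Subgroup.mem_bot.1 (hbot ▸ hx)]
    group
  set Y := X.map (MulAut.conj g).toMonoidHom with hY
  have hYS : Y ≤ (S : Subgroup G) := by rintro _ ⟨x, hx, rfl⟩; exact hg x hx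
  have hY2 : IsPGroup 2 Y := (hS2.to_le hX).map _
  have hYne : Y ≠ ⊥ := by rwa [Ne, Subgroup.map_eq_bot_iff_of_injective _ (MulAut.conj g).injective]
  rcases eq_or_lt_of_le hX with hEq | hlt
  · have hYN : g ∈ Subgroup.normalizer ((S : Subgroup G) : Set G) :=
      mem_normalizer_of_forall fun x hx => hg x (hEq ▸ hx)
    exact hmod _ (hsol _ hS2 fun h => hbot (hEq.trans h)) Subgroup.le_normalizer g hYN _
      (fun x hx => hX hx) hg
  set D := (S : Subgroup G) ⊓ Subgroup.normalizer (X : Set G) with hD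
  have hXD : X ≤ D := le_inf hX Subgroup.le_normalizer
  have hcard : Nat.card X < Nat.card D := card_lt_inf_normalizer hS2 hlt
  have hYN : (S : Subgroup G) ⊓ Subgroup.normalizer (Y : Set G) ≠ ⊥ :=
    fun h => hYne (le_bot_iff.1 (h ▸ le_inf hYS Subgroup.le_normalizer))
  obtain ⟨h, hhD, hhY⟩ := (local_agree hsol hS4 S M hmod _ ⟨Y, hY2, hYne, rfl⟩ hYN).2
    (D.map (MulAut.conj g).toMonoidHom)
    ((Subgroup.map_mono inf_le_right).trans
      (Subgroup.le_normalizer_map _))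
    ((hS2.to_le inf_le_left).map _) (Y : Set G) (Subgroup.map_mono hXD) hYS
  have hDcard : Nat.card ↥(S : Subgroup G) - Nat.card ↥D < k := by
    have : Nat.card ↥D ≤ Nat.card ↥(S : Subgroup G) := Subgroup.card_le_of_le inf_le_left
    omega
  have h1 : Agree M (D : Set G) (h * g) := ih _ hDcard D rfl inf_le_left (h * g) fun d hd => by
    rw [show h * g * d * (h * g)⁻¹ = h * (g * d * g⁻¹) * h⁻¹ by group]
    exact hhD _ ⟨d, hd, rfl⟩
  have h2 : Agree M ((fun x => h * g * x * (h * g)⁻¹) '' (X : Set G)) h⁻¹ := by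
    refine hhY.inv.mono ?_
    rintro _ ⟨x, hx, rfl⟩
    exact ⟨g * x * g⁻¹, ⟨x, hx, rfl⟩, by group⟩
  have h3 := (h1.mono (Y := (X : Set G)) hXD).mul h2
  rwa [inv_mul_cancel_left] at h3

end Main

end CfsgLib.LocalSFour60
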