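import Mathlib
import Cfsg.Agent.Eq.Def_Local
import Cfsg.Agent.Eq.Def_Solvable
import Cfsg.Agent.Eq.Def_Involutions
import Cfsg.Agent.Eq.Def_IsolatedElements
import Cfsg.Agent.LocalSFour60.Control
import Cfsg.Agent.ZStar.Theorem
import Cfsg.Agent.SolvSignalizer.TwoPrime.Odd
import Cfsg.Agent.EarlyCharTwo.Cores
import Cfsg.Agent.StronglyEmbedded.Criteria
import Cfsg.Agent.Coprime.Generation

/-!
A nonabelian simple group whose 2-local subgroups are solvable, without sections of the symmetric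
group of degree four and without elements of order three acting on four-groups, has a strongly
embedded subgroup.
-/

set_option autoImplicit false

namespace CfsgLib.LocalSFour60

open Cfsg CfsgLib.SolvableSFour
open CfsgLib.SolvSignalizer (uCoreOf uCoreOf_le le_normalizer_uCoreOf not_dvd_uCoreOf)

variable {G : Type*} [Group G] [Finite G]

theorem orderOf_two_of_sq {x : G} (hx : x * x = 1) (h1 : x ≠ 1) : orderOf x = 2 :=
  haveI : Fact (Nat.Prime 2) := ⟨Nat.prime_two⟩
  orderOf_eq_prime (by rw [sq, hx]) h1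

theorem isPGroup_zpowers_of_sq {x : G} (hx : x * x = 1) : IsPGroup 2 (Subgroup.zpowers x) :=
  CfsgLib.SolvableSFour.Elem.isPGroup (by
    rw [Subgroup.zpowers_eq_closure]
    exact elem_closure (fun a ha b hb => by
      rw [Set.mem_singleton_iff.1 ha, Set.mem_singleton_iff.1 hb])
      fun a ha => by rw [Set.mem_singleton_iff.1 ha, hx])

theorem centralizer_solvable
    (hsol : ∀ T : Subgroup G, IsPGroup 2 T → T ≠ ⊥ →
      Group.IsSolvable (Subgroup.normalizer (T : Set G)))
    {x : G} (hx : x * x = 1) (h1 : x ≠ 1) :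
    Group.IsSolvable (Subgroup.centralizer ({x} : Set G)) := by
  haveI := hsol _ (isPGroup_zpowers_of_sq hx) (Subgroup.zpowers_ne_bot.2 h1)
  refine Group.isSolvable_of_isSolvable_injective (Subgroup.inclusion_injective
    (H := Subgroup.centralizer ({x} : Set G))
    (K := Subgroup.normalizer (Subgroup.zpowers x : Set G)) ?_)
  refine le_trans (fun c hc => ?_) (Subgroup.centralizer_le_normalizer _)
  refine Subgroup.mem_centralizer_iff.2 ?_
  rintro _ ⟨i, rfl⟩
  exact (show Commute x c from (Subgroup.mem_centralizer_singleton_iff.1 hc).symm).zpow_left i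

/-- Balance between commuting involutions. -/
theorem balance
    (hsol : ∀ T : Subgroup G, IsPGroup 2 T → T ≠ ⊥ →
      Group.IsSolvable (Subgroup.normalizer (T : Set G)))
    {a b : G} (ha : a * a = 1) (hb : b * b = 1) (hb1 : b ≠ 1) (hab : a * b = b * a) :
    centralizerPPrimeCore 2 a ⊓ Subgroup.centralizer {b} ≤ centralizerPPrimeCore 2 b := by
  haveI : Fact (Nat.Prime 2) := ⟨Nat.prime_two⟩
  haveI := centralizer_solvable hsol hb hb1
  set θa := uCoreOf 2 (Subgroup.centralizer ({a} : Set G))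
  set Cb := Subgroup.centralizer ({b} : Set G) with hCb
  show θa ⊓ Cb ≤ uCoreOf 2 Cb
  have haC : a ∈ Cb := Subgroup.mem_centralizer_singleton_iff.2 hab
  have hle : (θa ⊓ Cb).subgroupOf Cb ≤ pPrimeCore 2 Cb := by
    refine CfsgLib.Constrained.le_pPrimeCore_of_centralizes_of_normalized (charP_quotient Cb)
      (P := (Subgroup.zpowers a).subgroupOf Cb)
      ((isPGroup_zpowers_of_sq ha).comap_of_injective _ Cb.subtype_injective) ?_ ?_ ?_
    · rw [Nat.card_congr (Subgroup.subgroupOfEquivOfLe inf_le_right).toEquiv]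
      exact fun h => not_dvd_uCoreOf 2 (Subgroup.centralizer ({a} : Set G))
        (h.trans (Subgroup.card_dvd_of_le inf_le_left))
    · intro x hx
      refine Subgroup.mem_centralizer_iff.2 fun y hy => Subtype.ext ?_
      obtain ⟨i, hi⟩ := (show (y : G) ∈ Subgroup.zpowers a from hy)
      have h1 : Commute a (x : G) := (Subgroup.mem_centralizer_singleton_iff.1
        (uCoreOf_le 2 _ (Subgroup.mem_subgroupOf.1 hx).1)).symm
      show (y : G) * x = x * y
      rw [← hi]
      exact (h1.zpow_left i).eq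
    · intro c hc
      refine mem_normalizer_of_forall fun x hx => ?_
      have hca : (c : G) ∈ Subgroup.centralizer ({a} : Set G) :=
        Subgroup.mem_centralizer_singleton_iff.2 (congrArg Subtype.val
          (Subgroup.mem_centralizer_iff.1 hc ⟨a, haC⟩ (Subgroup.mem_zpowers a))).symm
      exact Subgroup.mem_subgroupOf.2 (Subgroup.mem_inf.2
        ⟨conj_mem_of_mem_normalizer (le_normalizer_uCoreOf 2 _ hca) (Subgroup.mem_subgroupOf.1 hx).1,
          (c * x * c⁻¹ : Cb).2⟩)
  exact fun x hx => ⟨⟨x, hx.2⟩, hle (Subgroup.mem_subgroupOf.2 hx), rfl⟩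

/-- An involution normalising an elementary group centralises at least the square root of it. -/
theorem card_le_sq_fixed {V : Subgroup G} (hV : Elem V) {t : G} (ht : t * t = 1)
    (htV : t ∈ Subgroup.normalizer (V : Set G)) :
    Nat.card V ≤ Nat.card ↥(V ⊓ Subgroup.centralizer {t}) ^ 2 := by
  letI : CommGroup V := { (inferInstance : Group V) with
    mul_comm := fun a b => Subtype.ext (hV.comm a a.2 b b.2) }
  have hti : t⁻¹ = t := inv_eq_of_mul_eq_one_right ht
  let f : V →* V := MonoidHom.mk'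
    (fun v => ⟨v * (t * v * t⁻¹), mul_mem v.2 (conj_mem_of_mem_normalizer htV v.2)⟩) fun u v => by
      refine Subtype.ext ?_
      show (u : G) * v * (t * (u * v) * t⁻¹) = u * (t * u * t⁻¹) * (v * (t * v * t⁻¹))
      rw [show t * ((u : G) * v) * t⁻¹ = (t * u * t⁻¹) * (t * v * t⁻¹) by group]
      exact hV.swap4 v.2 (conj_mem_of_mem_normalizer htV u.2)
  have hker : Nat.card f.ker ≤ Nat.card ↥(V ⊓ Subgroup.centralizer {t}) := by
    refine Nat.card_le_card_of_injective (fun v => ⟨(v : V), Subgroup.mem_inf.2 ⟨(v : V).2, ?_⟩⟩) ?_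
    · have h1 : ((v : V) : G) * (t * (v : V) * t⁻¹) = 1 := congrArg Subtype.val v.2
      have h2 := hV.eq_of_mul_eq_one (v : V).2 h1
      refine Subgroup.mem_centralizer_singleton_iff.2 ?_
      calc ((v : V) : G) * t = t * (v : V) * t⁻¹ * t := by rw [h2]
        _ = t * (v : V) := by group
    · intro u v h
      exact Subtype.ext (Subtype.ext (congrArg (fun z : ↥(V ⊓ Subgroup.centralizer {t}) => (z : G)) h :))
  have hrange : Nat.card f.range ≤ Nat.card ↥(V ⊓ Subgroup.centralizer {t}) := by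
    refine Nat.card_le_card_of_injective (fun v => ⟨(v : V), Subgroup.mem_inf.2 ⟨(v : V).2, ?_⟩⟩) ?_
    · obtain ⟨u, hu⟩ := v.2
      rw [← hu]
      refine Subgroup.mem_centralizer_singleton_iff.2 ?_
      show (u : G) * (t * u * t⁻¹) * t = t * (u * (t * u * t⁻¹))
      rw [hti]
      conv_lhs => rw [hV.comm u u.2 _ (by simpa [hti] using conj_mem_of_mem_normalizer htV u.2)]
      group
    · intro u v h
      exact Subtype.ext (Subtype.ext (congrArg (fun z : ↥(V ⊓ Subgroup.centralizer {t}) => (z : G)) h :))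
  have h := Subgroup.card_eq_card_quotient_mul_card_subgroup f.ker
  rw [Nat.card_congr (QuotientGroup.quotientKerEquivRange f).toEquiv] at h
  rw [h, sq]
  exact Nat.mul_le_mul hrange hker

/-- Squares centralising a four-group leave an element fixed. -/
theorem exists_fixed_of_card_four {V M : Subgroup G} (hV : Elem V) (h4 : Nat.card V = 4)
    (hMV : M ≤ Subgroup.normalizer (V : Set G))
    (hsq : ∀ m ∈ M, m * m ∈ Subgroup.centralizer (V : Set G)) :
    ∃ z ∈ V, z ≠ 1 ∧ ∀ m ∈ M, m * z * m⁻¹ = z := by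
  haveI : Nontrivial V := Finite.one_lt_card_iff_nontrivial.1 (by omega)
  obtain ⟨⟨a, ha⟩, ha1⟩ := exists_ne (1 : V)
  replace ha1 : a ≠ 1 := fun h => ha1 (Subtype.ext h)
  by_cases hall : ∀ m ∈ M, m * a * m⁻¹ = a
  · exact ⟨a, ha, ha1, hall⟩
  push Not at hall
  obtain ⟨m, hm, hma⟩ := hall
  have hinvol : ∀ n ∈ M, ∀ x ∈ V, n * (n * x * n⁻¹) * n⁻¹ = x := fun n hn x hx => by
    calc n * (n * x * n⁻¹) * n⁻¹ = n * n * x * (n * n)⁻¹ := by group
      _ = x := by rw [← Subgroup.mem_centralizer_iff.1 (hsq n hn) x hx, mul_inv_cancel_right]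
  have hmem : ∀ n ∈ M, ∀ x ∈ V, n * x * n⁻¹ ∈ V := fun n hn x hx =>
    conj_mem_of_mem_normalizer (hMV hn) hx
  set b := m * a * m⁻¹ with hb
  have hbV : b ∈ V := hmem m hm a ha
  have hb1 : b ≠ 1 := fun h => ha1 (conj_eq_one_iff.1 h)
  have hmb : m * b * m⁻¹ = a := hinvol m hm a ha
  set c := a * b with hc
  have hcV : c ∈ V := mul_mem ha hbV
  have hc1 : c ≠ 1 := fun h => hma (hV.eq_of_mul_eq_one ha h)
  have hca : c ≠ a := fun h => hb1 (mul_eq_left.1 h)
  have hcb : c ≠ b := fun h => ha1 (mul_eq_right.1 h)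
  -- the four elements
  have hfour : ∀ x ∈ V, x = 1 ∨ x = a ∨ x = b ∨ x = c := by
    classical
    intro x hx
    by_contra hcon
    push Not at hcon
    obtain ⟨h1, h2, h3, h4'⟩ := hcon
    haveI := Fintype.ofFinite V
    have hle := Finset.card_le_univ
      ({(⟨1, one_mem V⟩ : V), ⟨a, ha⟩, ⟨b, hbV⟩, ⟨c, hcV⟩, ⟨x, hx⟩} : Finset V)
    rw [← Nat.card_eq_fintype_card, h4] at hle
    have hab : a ≠ b := fun h => hma h.symm
    simp [Finset.card_insert_of_notMem, Ne.symm ha1, Ne.symm hb1, Ne.symm hc1, Ne.symm h1,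
      hab, Ne.symm hca, Ne.symm h2, Ne.symm hcb, Ne.symm h3, Ne.symm h4'] at hle
  refine ⟨c, hcV, hc1, fun n hn => ?_⟩
  by_contra hne
  have hmul : ∀ x y : G, n * (x * y) * n⁻¹ = (n * x * n⁻¹) * (n * y * n⁻¹) := fun x y => by group
  have hnc1 : n * c * n⁻¹ ≠ 1 := fun h => hc1 (conj_eq_one_iff.1 h)
  have hmm : ∀ x : G, n * m * x * (n * m)⁻¹ = n * (m * x * m⁻¹) * n⁻¹ := fun x => by group
  rcases hfour _ (hmem n hn c hcV) with h | h | h | h
  · exact hnc1 h
  · -- `c ↦ a`, `a ↦ c`, `b` fixed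
    have hna : n * a * n⁻¹ = c := by rw [← h]; exact hinvol n hn c hcV
    have hnb : n * b * n⁻¹ = b := by
      have h1 := hmul a b
      rw [← hc, h, hna] at h1
      -- `a = c * n b n⁻¹`
      calc n * b * n⁻¹ = c⁻¹ * (c * (n * b * n⁻¹)) := by group
        _ = c⁻¹ * a := by rw [← h1]
        _ = b := by rw [hc, mul_inv_rev, hV.inv_eq hbV, hV.inv_eq ha, mul_assoc, hV.sq a ha, mul_one]
    have h2 := hinvol (n * m) (mul_mem hn hm) a ha
    rw [hmm a, ← hb, hnb, hmm b, hmb, hna] at h2
    exact hca h2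
  · -- `c ↦ b`, `b ↦ c`, `a` fixed
    have hnb : n * b * n⁻¹ = c := by rw [← h]; exact hinvol n hn c hcV
    have hna : n * a * n⁻¹ = a := by
      have h1 := hmul a b
      rw [← hc, h, hnb] at h1
      calc n * a * n⁻¹ = n * a * n⁻¹ * c * c⁻¹ := by group
        _ = b * c⁻¹ := by rw [← h1]
        _ = a := by rw [hc, mul_inv_rev, ← mul_assoc, mul_inv_cancel, one_mul, hV.inv_eq ha]
    have h2 := hinvol (n * m) (mul_mem hn hm) b hbV
    rw [hmm b, hmb, hna, hmm a, ← hb, hnb] at h2
    exact hcb h2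
  · exact hne h

theorem exists_stronglyEmbedded (hsimp : IsSimpleGroup G) (hna : ¬ ∀ a b : G, a * b = b * a)
    (heven : 2 ∣ Nat.card G)
    (hsol : ∀ T : Subgroup G, IsPGroup 2 T → T ≠ ⊥ →
      Group.IsSolvable (Subgroup.normalizer (T : Set G)))
    (hS4 : ¬ Cfsg.Involves (Equiv.Perm (Fin 4)) G)
    (hU4 : ∀ U : Subgroup G, Elem U → Nat.card U = 4 →
      ∀ g ∈ Subgroup.normalizer (U : Set G), g * g ∈ Subgroup.centralizer (U : Set G)) :
    ∃ M : Subgroup G, Cfsg.IsStronglyEmbedded M := by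
  classical
  haveI : Fact (Nat.Prime 2) := ⟨Nat.prime_two⟩
  haveI := hsimp
  have hnormal : ∀ N : Subgroup G, N.Normal → N = ⊥ ∨ N = ⊤ := fun N hN =>
    hN.eq_bot_or_eq_top
  obtain ⟨S⟩ : Nonempty (Sylow 2 G) := inferInstance
  have hS2 : IsPGroup 2 (S : Subgroup G) := S.isPGroup'
  have hSne : (S : Subgroup G) ≠ ⊥ := S.ne_bot_of_dvd_card heven
  obtain ⟨V, hVS, hVel, hVne, hSV, hZV, hmod⟩ := exists_module hsol hS4 S hSne
  set M0 := Subgroup.normalizer (V : Set G) with hM0
  have hctrl : ∀ x ∈ (S : Subgroup G), ∀ g : G, g * x * g⁻¹ ∈ (S : Subgroup G) →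
      ∃ m ∈ M0, m * x * m⁻¹ = g * x * g⁻¹ := by
    intro x hx g hg
    obtain ⟨m, hm, hmx⟩ := global_agree hsol hS4 S M0 hmod (Subgroup.zpowers x)
      (Subgroup.zpowers_le.2 hx) g (by
        rintro _ ⟨i, rfl⟩
        simp only [← conj_zpow]
        exact zpow_mem hg i)
    exact ⟨m, hm, hmx x (Subgroup.mem_zpowers x)⟩
  have hclosed : ∀ x ∈ V, ∀ g : G, g * x * g⁻¹ ∈ (S : Subgroup G) → g * x * g⁻¹ ∈ V := by
    intro x hx g hg
    obtain ⟨m, hm, he⟩ := hctrl x (hVS hx) g hg
    exact he ▸ conj_mem_of_mem_normalizer hm hx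
  -- `M₀` fixes no element of `V`
  have hfix : ∀ z ∈ V, z ≠ 1 → ¬ ∀ m ∈ M0, m * z * m⁻¹ = z := by
    intro z hz hz1 hall
    have hz2 : z * z = 1 := hVel.sq z hz
    have hiso : Cfsg.IsIsolated z := by
      intro g hg
      set w := g * z * g⁻¹ with hw
      have hE : Elem (Subgroup.closure ({z, w} : Set G)) := by
        refine elem_closure ?_ ?_
        · rintro x (rfl | rfl) y (rfl | rfl)
          · rfl
          · exact hg
          · exact hg.symm
          · rfl
        · rintro x (rfl | rfl)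
          · exact hz2
          · rw [hw, show g * z * g⁻¹ * (g * z * g⁻¹) = g * (z * z) * g⁻¹ by group, hz2]; group
      obtain ⟨k, -, hk⟩ := CfsgLib.LocalCharP.exists_conj_mem_sylow S le_top _ le_top hE.isPGroup
      have hkz := hk z (Subgroup.subset_closure (Or.inl rfl))
      have hkw := hk w (Subgroup.subset_closure (Or.inr rfl))
      have hsingle : ∀ h : G, h * z * h⁻¹ ∈ (S : Subgroup G) → h * z * h⁻¹ = z := fun h hh => by
        obtain ⟨m, hm, he⟩ := hctrl z (hVS hz) h hh
        rw [← he, hall m hm]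
      have h1 := hsingle k hkz
      have h2 : k * w * k⁻¹ = z := by
        rw [hw, show k * (g * z * g⁻¹) * k⁻¹ = k * g * z * (k * g)⁻¹ by group] at hkw ⊢
        exact hsingle _ hkw
      exact (MulAut.conj k).injective (show k * w * k⁻¹ = k * z * k⁻¹ by rw [h1, h2])
    have hstar := CfsgLib.ZStar.inZStar_of_isolated (orderOf_two_of_sq hz2 hz1) hiso
    have hcore : pPrimeCore 2 G = ⊥ := (hnormal _ inferInstance).resolve_right fun h =>
      CfsgLib.Constrained.pPrimeCore_not_dvd (p := 2) (G := G)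
        (by rw [h, Subgroup.card_top]; exact heven)
    have hzc : z ∈ Subgroup.center G := Subgroup.mem_center_iff.2 fun g => by
      have h := hstar g
      rw [hcore, Subgroup.mem_bot, mul_inv_eq_one, mul_inv_eq_iff_eq_mul] at h
      exact h
    rcases hnormal (Subgroup.center G) inferInstance with h | h
    · exact hz1 (by rw [h] at hzc; exact hzc)
    · exact hna fun a b => (Subgroup.mem_center_iff.1 (h ▸ Subgroup.mem_top b : b ∈ Subgroup.center G) a)
  have hcard8 : 2 ^ 3 ≤ Nat.card V := by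
    obtain ⟨k, hk⟩ := IsPGroup.iff_card.1 hVel.isPGroup
    rcases k with _ | _ | _ | k
    · exact absurd (Subgroup.card_eq_one.1 (by simpa using hk)) hVne
    · obtain ⟨z, hz, hz1⟩ := (Subgroup.bot_or_exists_ne_one V).resolve_left hVne
      refine absurd (fun m hm => ?_) (hfix z hz hz1)
      by_contra hne
      have hmz : m * z * m⁻¹ ∈ V := conj_mem_of_mem_normalizer hm hz
      haveI := Fintype.ofFinite V
      have hle := Finset.card_le_univ ({(⟨1, one_mem V⟩ : V), ⟨z, hz⟩, ⟨_, hmz⟩} : Finset V)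
      rw [← Nat.card_eq_fintype_card, hk] at hle
      simp [Finset.card_insert_of_notMem, Ne.symm hz1, Ne.symm hne,
        Ne.symm (fun h => hz1 (conj_eq_one_iff.1 h) : m * z * m⁻¹ ≠ 1)] at hle
    · obtain ⟨z, hz, hz1, hall⟩ := exists_fixed_of_card_four (M := M0) hVel (by simpa using hk)
        le_rfl (fun m hm => hU4 V hVel (by simpa using hk) m hm)
      exact absurd hall (hfix z hz hz1)
    · rw [hk]; exact Nat.pow_le_pow_right two_pos (by omega)
  -- the signalizer functor
  have hθ : Cfsg.IsSolvableSignalizerFunctor 2 V (centralizerPPrimeCore 2) := by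
    refine ⟨⟨fun a _ _ => uCoreOf_le 2 _, fun a _ _ => not_dvd_uCoreOf 2 _,
      fun a ha _ b hb x hx => ?_, fun a ha _ b hb hb1 => ?_⟩, fun a ha ha1 => ?_⟩
    · exact conj_mem_of_mem_normalizer (le_normalizer_uCoreOf 2 (Subgroup.centralizer ({a} : Set G))
        (Subgroup.mem_centralizer_singleton_iff.2 (hVel.comm b hb a ha))) hx
    · exact balance hsol (hVel.sq a ha) (hVel.sq b hb) hb1 (hVel.comm a ha b hb)
    · haveI := centralizer_solvable hsol (hVel.sq a ha) ha1
      exact Group.isSolvable_of_isSolvable_injective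
        (Subgroup.inclusion_injective (uCoreOf_le 2 (Subgroup.centralizer ({a} : Set G))))
  obtain ⟨K, hKsol, hKodd, hVK, hKC, hKcl⟩ :=
    CfsgLib.SolvSignalizer.exists_solvable_closure_two hVel.isElementaryAbelian hcard8 hθ
  have hθK : ∀ a ∈ V, a ≠ 1 → centralizerPPrimeCore 2 a ≤ K := fun a ha ha1 =>
    (hKC a ha ha1).ge.trans inf_le_left
  have hM0K : M0 ≤ Subgroup.normalizer (K : Set G) := by
    intro m hm
    refine mem_normalizer_of_forall fun x hx => ?_
    have hle : K.map (MulAut.conj m).toMonoidHom ≤ K := by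
      conv_lhs => rw [← hKcl]
      rw [Cfsg.signalizerClosure, Subgroup.map_iSup]
      refine iSup_le fun a => le_trans (CfsgLib.EarlyCharTwo.map_conj_centralizerPPrimeCore_le m a.1) ?_
      exact hθK _ (conj_mem_of_mem_normalizer hm a.2.1) fun h => a.2.2 (conj_eq_one_iff.1 h)
    exact hle ⟨x, hx, rfl⟩
  set M := K ⊔ M0 with hM
  have hMtop : M ≠ ⊤ := by
    intro htop
    rcases eq_or_ne K ⊥ with h | h
    · rw [hM, h, bot_sup_eq, hM0, Subgroup.normalizer_eq_top_iff] at htop
      rcases hnormal V htop with h' | h'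
      · exact hVne h'
      · exact hna fun a b => hVel.comm a (h' ▸ Subgroup.mem_top a) b (h' ▸ Subgroup.mem_top b)
    · have h1 : Subgroup.normalizer (K : Set G) = ⊤ := by
        rw [eq_top_iff, ← htop]
        exact sup_le Subgroup.le_normalizer hM0K
      rcases hnormal K (Subgroup.normalizer_eq_top_iff.1 h1) with h' | h'
      · exact h h'
      · exact hKodd (by rw [h', Subgroup.card_top]; exact heven)
  have hM0M : M0 ≤ M := le_sup_right
  -- centralisers of elements of `V`
  have hCw : ∀ w ∈ V, w ≠ 1 → Subgroup.centralizer ({w} : Set G) ≤ M := by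
    intro w hw hw1
    set C := Subgroup.centralizer ({w} : Set G) with hC
    haveI := centralizer_solvable hsol (hVel.sq w hw) hw1
    have hVC : V ≤ C := fun v hv => Subgroup.mem_centralizer_singleton_iff.2 (hVel.comm v hv w hw)
    obtain ⟨T, hT⟩ := (hVel.isPGroup.comap_of_injective C.subtype C.subtype_injective).exists_le_sylow
    obtain ⟨h, -, hh⟩ := CfsgLib.LocalCharP.exists_conj_mem_sylow S le_top
      ((T : Subgroup C).map C.subtype) le_top (T.isPGroup'.map _)
    have hhV : ∀ v ∈ V, h * v * h⁻¹ ∈ V := fun v hv =>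
      hclosed v hv h (hh v ⟨⟨v, hVC hv⟩, hT hv, rfl⟩)
    have hhM : h ∈ M0 := mem_normalizer_of_forall hhV
    have htop := eq_core_sup_normalizer T (B := V.subgroupOf C) hT
      ⟨fun a ha b hb => Subtype.ext (hVel.comm _ ha _ hb), fun a ha => Subtype.ext (hVel.sq _ ha)⟩
      (fun x b hb hxb => by
        have h1 := hh _ ⟨_, hxb, rfl⟩
        have h2 : h * x * b * (h * x)⁻¹ ∈ V := hclosed _ hb _ (by
          simpa [mul_assoc] using h1)
        have h3 := conj_mem_of_mem_normalizer (inv_mem hhM) h2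
        refine Subgroup.mem_subgroupOf.2 ?_
        simpa [mul_assoc] using h3)
    have hle := Subgroup.map_mono (f := C.subtype) htop.ge
    rw [map_top_subtype, Subgroup.map_sup] at hle
    refine hle.trans (sup_le ((hθK w hw hw1).trans le_sup_left) (le_trans ?_ hM0M))
    rintro _ ⟨n, hn, rfl⟩
    exact mem_normalizer_of_forall fun v hv =>
      conj_mem_of_mem_normalizer hn (m := ⟨v, hVC hv⟩) hv
  have hconjM : ∀ u ∈ V, u ≠ 1 → ∀ g : G, g * u * g⁻¹ ∈ V → g ∈ M := by
    intro u hu hu1 g hg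
    obtain ⟨m, hm, he⟩ := hctrl u (hVS hu) g (hVS hg)
    have h1 : m⁻¹ * g ∈ Subgroup.centralizer ({u} : Set G) := by
      refine Subgroup.mem_centralizer_singleton_iff.2 ?_
      calc m⁻¹ * g * u = m⁻¹ * (g * u * g⁻¹) * g := by group
        _ = m⁻¹ * (m * u * m⁻¹) * g := by rw [he]
        _ = u * (m⁻¹ * g) := by group
    simpa using mul_mem (hM0M hm) (hCw u hu hu1 h1)
  -- centralisers of involutions of `S`
  have hCt : ∀ t ∈ (S : Subgroup G), t * t = 1 → t ≠ 1 →
      Subgroup.centralizer ({t} : Set G) ≤ M := by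
    intro t ht ht2 ht1
    set C := Subgroup.centralizer ({t} : Set G) with hC
    haveI := centralizer_solvable hsol ht2 ht1
    set W := V ⊓ C with hW
    have hW3 : 3 ≤ Nat.card W := by
      have h := (card_le_sq_fixed hVel ht2 (hSV ht)).trans' hcard8
      rw [← hC, ← hW] at h
      by_contra hlt
      have := Nat.pow_le_pow_left (show Nat.card W ≤ 2 by omega) 2
      omega
    have hWel : Elem W := hVel.mono inf_le_left
    have hWcomm : IsMulCommutative W := ⟨⟨fun a b => Subtype.ext (hWel.comm a a.2 b b.2)⟩⟩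
    have hWnc : ¬ IsCyclic W := by
      intro hcyc
      obtain ⟨g, hg⟩ := IsCyclic.exists_generator (α := W)
      have h1 : orderOf g = Nat.card W := orderOf_eq_card_of_forall_mem_zpowers hg
      have h2 : orderOf g ∣ 2 := orderOf_dvd_of_pow_eq_one (by
        rw [sq]; exact Subtype.ext (hWel.sq g g.2))
      have := Nat.le_of_dvd two_pos h2
      omega
    have hcore : centralizerPPrimeCore 2 t ≤ K := by
      refine CfsgLib.Coprime.le_of_centralizers hWcomm hWnc
        (inf_le_right.trans (le_normalizer_uCoreOf 2 C)) ?_ fun b hb hb1 => ?_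
      · obtain ⟨k, hk⟩ := IsPGroup.iff_card.1 hWel.isPGroup
        rw [hk]
        exact ((Nat.prime_two.coprime_iff_not_dvd).2 (not_dvd_uCoreOf 2 C)).pow_left k
      · exact (balance hsol ht2 (hVel.sq b hb.1) hb1
          (Subgroup.mem_centralizer_singleton_iff.1 hb.2).symm).trans (hθK b hb.1 hb1)
    obtain ⟨T, hT⟩ := ((hS2.to_le (inf_le_left : (S : Subgroup G) ⊓ C ≤ S)).comap_of_injective
      C.subtype C.subtype_injective).exists_le_sylow
    obtain ⟨h, -, hh⟩ := CfsgLib.LocalCharP.exists_conj_mem_sylow S le_top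
      ((T : Subgroup C).map C.subtype) le_top (T.isPGroup'.map _)
    set B : Subgroup C := (T : Subgroup C) ⊓ (V.comap (MulAut.conj h).toMonoidHom).subgroupOf C
      with hB
    have hWB : ∀ w (hw : w ∈ W), (⟨w, hw.2⟩ : C) ∈ B := fun w hw => by
      have hwT : (⟨w, hw.2⟩ : C) ∈ T := hT (Subgroup.mem_inf.2 ⟨hVS hw.1, hw.2⟩ :)
      exact Subgroup.mem_inf.2 ⟨hwT, hclosed w hw.1 h (hh w ⟨_, hwT, rfl⟩)⟩
    have hBel : Elem B := by
      refine ⟨fun a ha b hb => ?_, fun a ha => ?_⟩
      · refine Subtype.ext ((MulAut.conj h).injective ?_)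
        rw [Subgroup.coe_mul, Subgroup.coe_mul, map_mul, map_mul]
        exact hVel.comm _ ha.2 _ hb.2
      · refine Subtype.ext ((MulAut.conj h).injective ?_)
        rw [Subgroup.coe_mul, map_mul, Subgroup.coe_one, map_one]
        exact hVel.sq _ ha.2
    have htop := eq_core_sup_normalizer T (B := B) inf_le_left hBel (fun x b hb hxb => by
      refine Subgroup.mem_inf.2 ⟨hxb, ?_⟩
      have h1 := hh _ ⟨_, hxb, rfl⟩
      have h2 := hclosed _ hb.2 (h * x * h⁻¹) (by
        show h * x * h⁻¹ * (h * b * h⁻¹) * (h * x * h⁻¹)⁻¹ ∈ _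
        simpa [mul_assoc] using h1)
      show h * (x * b * x⁻¹ : C) * h⁻¹ ∈ V
      simpa [mul_assoc] using h2)
    obtain ⟨w, hw, hw1⟩ := (Subgroup.bot_or_exists_ne_one W).resolve_left fun h0 => by
      rw [h0, Subgroup.card_bot] at hW3; omega
    have hhw := (hWB w hw).2
    have hhM : h ∈ M := hconjM w hw.1 hw1 h hhw
    have hle := Subgroup.map_mono (f := C.subtype) htop.ge
    rw [map_top_subtype, Subgroup.map_sup] at hle
    refine hle.trans (sup_le (hcore.trans le_sup_left) ?_)
    rintro _ ⟨n, hn, rfl⟩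
    have h1 := (conj_mem_of_mem_normalizer hn (hWB w hw)).2
    have h2 : h * (n : G) ∈ M := hconjM w hw.1 hw1 _ (by
      have h3 : h * ((n : G) * w * (n : G)⁻¹) * h⁻¹ ∈ V := h1
      simpa [mul_assoc] using h3)
    simpa using mul_mem (inv_mem hhM) h2
  refine ⟨M, CfsgLib.StronglyEmbedded.intro_of_sylow hMtop S (hSV.trans hM0M) hSne
    fun Q hQ hQne n hn => ?_⟩
  obtain ⟨z, hz, hz1⟩ := (Subgroup.bot_or_exists_ne_one _).resolve_left
    (omegaCenter_ne_bot (hS2.to_le hQ) hQne)
  obtain ⟨hzQ, hz2⟩ := mem_omegaCenter.1 hz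
  obtain ⟨m, hm, he⟩ := hctrl z (hQ hzQ.1) n (hQ (conj_mem_of_mem_normalizer hn hzQ.1))
  have h1 : m⁻¹ * n ∈ Subgroup.centralizer ({z} : Set G) := by
    refine Subgroup.mem_centralizer_singleton_iff.2 ?_
    calc m⁻¹ * n * z = m⁻¹ * (n * z * n⁻¹) * n := by group
      _ = m⁻¹ * (m * z * m⁻¹) * n := by rw [he]
      _ = z * (m⁻¹ * n) := by group
  simpa using mul_mem (hM0M hm) (hCt z (hQ hzQ.1) hz2 hz1 h1)

end CfsgLib.LocalSFour60
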