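import Mathlib
import Cfsg.Agent.Eq.Def_Classical
import Cfsg.Agent.Eq.Def_Sz
import Cfsg.Agent.RankOne.Classify.AllPPlusProof
import Cfsg.Agent.RankOne.Classify.PiecesProof
import Cfsg.Agent.Suzuki.Basic
import Cfsg.Agent.Suzuki.Bridge
import Cfsg.Agent.Suzuki.LieModel

/-!
A simple group with a strongly embedded subgroup contains two involutions whose product has odd
prime order different from a given prime `p > 3`.
-/

set_option autoImplicit false

namespace CfsgLib.LocalSFour60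

open Cfsg
open scoped Matrix

universe u

/-- Two elements of order at most two with product of order an odd prime other than `p`. -/
def HasDihedral (p : ℕ) (X : Type*) [Group X] : Prop :=
  ∃ (a b : X) (r : ℕ), r.Prime ∧ r ≠ 2 ∧ r ≠ p ∧ a * a = 1 ∧ b * b = 1 ∧ a * b ≠ 1 ∧ (a * b) ^ r = 1

theorem HasDihedral.map {p : ℕ} {X Y : Type*} [Group X] [Group Y] (f : X →* Y)
    (hf : Function.Injective f) (h : HasDihedral p X) : HasDihedral p Y := by
  obtain ⟨a, b, r, hr, h2, hp, ha, hb, hab, habr⟩ := h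
  refine ⟨f a, f b, r, hr, h2, hp, ?_, ?_, ?_, ?_⟩
  · rw [← map_mul, ha, map_one]
  · rw [← map_mul, hb, map_one]
  · rw [← map_mul, Ne, map_eq_one_iff f hf]; exact hab
  · rw [← map_mul, ← map_pow, habr, map_one]

theorem hasDihedral_psl {p : ℕ} (hp : p ≠ 3) (F : Type*) [Field F] [CharP F 2] :
    HasDihedral p (Matrix.ProjectiveSpecialLinearGroup (Fin 2) F) := by
  let a : Matrix.SpecialLinearGroup (Fin 2) F :=
    ⟨!![0, 1; 1, 0], by rw [Matrix.det_fin_two]; simp [CharTwo.neg_eq]⟩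
  let b : Matrix.SpecialLinearGroup (Fin 2) F := ⟨!![1, 1; 0, 1], by simp [Matrix.det_fin_two]⟩
  let π := QuotientGroup.mk' (Subgroup.center (Matrix.SpecialLinearGroup (Fin 2) F))
  have h2 : (1 : F) + 1 = 0 := CharTwo.add_self_eq_zero 1
  have ha : a * a = 1 := by
    refine Subtype.ext ?_
    show (!![0, 1; 1, 0] : Matrix (Fin 2) (Fin 2) F) * !![0, 1; 1, 0] = 1
    ext i j
    fin_cases i <;> fin_cases j <;> simp
  have hb : b * b = 1 := by
    refine Subtype.ext ?_
    show (!![1, 1; 0, 1] : Matrix (Fin 2) (Fin 2) F) * !![1, 1; 0, 1] = 1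
    ext i j
    fin_cases i <;> fin_cases j <;> simp [h2]
  have hc : (a * b) ^ 3 = 1 := by
    refine Subtype.ext ?_
    simp only [pow_succ, pow_zero, one_mul, Matrix.SpecialLinearGroup.coe_mul,
      Matrix.SpecialLinearGroup.coe_one]
    show (!![0, 1; 1, 0] : Matrix (Fin 2) (Fin 2) F) * !![1, 1; 0, 1] * (!![0, 1; 1, 0] * !![1, 1; 0, 1])
      * (!![0, 1; 1, 0] * !![1, 1; 0, 1]) = 1
    ext i j
    fin_cases i <;> fin_cases j <;> simp [h2]
  have hnc : a * b ∉ Subgroup.center (Matrix.SpecialLinearGroup (Fin 2) F) := by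
    intro h
    have h' : (!![0, 1; 1, 0] : Matrix (Fin 2) (Fin 2) F) * (!![0, 1; 1, 0] * !![1, 1; 0, 1]) =
        (!![0, 1; 1, 0] * !![1, 1; 0, 1]) * !![0, 1; 1, 0] :=
      congrArg Subtype.val (Subgroup.mem_center_iff.1 h a)
    have := congrFun (congrFun h' 0) 1
    simp at this
  refine ⟨π a, π b, 3, Nat.prime_three, by norm_num, hp.symm, ?_, ?_, ?_, ?_⟩
  · rw [← map_mul, ha, map_one]
  · rw [← map_mul, hb, map_one]
  · rw [← map_mul]
    exact fun h => hnc ((QuotientGroup.eq_one_iff _).1 h)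
  · rw [← map_mul, ← map_pow, hc, map_one]

/-- The permutation matrix exchanging the first two coordinates. -/
def swapFirst (F : Type*) [Field F] : Matrix (Fin 3) (Fin 3) F := !![0, 1, 0; 1, 0, 0; 0, 0, 1]

/-- The permutation matrix exchanging the last two coordinates. -/
def swapLast (F : Type*) [Field F] : Matrix (Fin 3) (Fin 3) F := !![1, 0, 0; 0, 0, 1; 0, 1, 0]

theorem hasDihedral_psu {p : ℕ} (hp : p ≠ 3) (F : Type*) [Field F] [CharP F 2] {q : ℕ} :
    HasDihedral p (Cfsg.PSU 3 F q) := by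
  let a0 : Matrix.SpecialLinearGroup (Fin 3) F :=
    ⟨swapFirst F, by rw [swapFirst, Matrix.det_fin_three]; simp [CharTwo.neg_eq]⟩
  let b0 : Matrix.SpecialLinearGroup (Fin 3) F :=
    ⟨swapLast F, by rw [swapLast, Matrix.det_fin_three]; simp [CharTwo.neg_eq]⟩
  have hmem : a0 ∈ Cfsg.SU 3 F q ∧ b0 ∈ Cfsg.SU 3 F q := by
    constructor
    · intro u v
      show Cfsg.hermForm 3 F q (swapFirst F *ᵥ u) (swapFirst F *ᵥ v) = _
      simp [Cfsg.hermForm, swapFirst, Fin.sum_univ_three, Matrix.mulVec, dotProduct]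
      ring
    · intro u v
      show Cfsg.hermForm 3 F q (swapLast F *ᵥ u) (swapLast F *ᵥ v) = _
      simp [Cfsg.hermForm, swapLast, Fin.sum_univ_three, Matrix.mulVec, dotProduct]
      ring
  let a : Cfsg.SU 3 F q := ⟨a0, hmem.1⟩
  let b : Cfsg.SU 3 F q := ⟨b0, hmem.2⟩
  let π := QuotientGroup.mk' (Subgroup.center (Cfsg.SU 3 F q))
  have ha : a * a = 1 := by
    refine Subtype.ext (Subtype.ext ?_)
    show swapFirst F * swapFirst F = 1
    ext i j
    fin_cases i <;> fin_cases j <;> simp [swapFirst]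
  have hb : b * b = 1 := by
    refine Subtype.ext (Subtype.ext ?_)
    show swapLast F * swapLast F = 1
    ext i j
    fin_cases i <;> fin_cases j <;> simp [swapLast]
  have hc : (a * b) ^ 3 = 1 := by
    refine Subtype.ext (Subtype.ext ?_)
    show (((a * b) ^ 3 : Cfsg.SU 3 F q) : Matrix.SpecialLinearGroup (Fin 3) F).1 = 1
    simp only [pow_succ, pow_zero, one_mul]
    show swapFirst F * swapLast F * (swapFirst F * swapLast F) * (swapFirst F * swapLast F) = 1
    ext i j
    fin_cases i <;> fin_cases j <;> simp [swapFirst, swapLast]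
  have hnc : a * b ∉ Subgroup.center (Cfsg.SU 3 F q) := by
    intro h
    have h' : swapFirst F * (swapFirst F * swapLast F) = swapFirst F * swapLast F * swapFirst F :=
      congrArg (fun m : Cfsg.SU 3 F q => (m : Matrix.SpecialLinearGroup (Fin 3) F).1)
        (Subgroup.mem_center_iff.1 h a)
    have := congrFun (congrFun h' 0) 0
    simp [swapFirst, swapLast] at this
  refine ⟨π a, π b, 3, Nat.prime_three, by norm_num, hp.symm, ?_, ?_, ?_, ?_⟩
  · rw [← map_mul, ha, map_one]
  · rw [← map_mul, hb, map_one]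
  · rw [← map_mul]
    exact fun h => hnc ((QuotientGroup.eq_one_iff _).1 h)
  · rw [← map_mul, ← map_pow, hc, map_one]

section Suzuki

open CfsgLib.Suzuki

variable {F : Type*} [Field F] [CharP F 2] {θ : F →+* F}

theorem wMat_mul_uMat_pow_five :
    ((wMat : Matrix.SpecialLinearGroup (Fin 4) F) * uMat θ 0 1) ^ 5 = 1 := by
  refine Subtype.ext ?_
  have h2 : (1 : F) + 1 = 0 := CharTwo.add_self_eq_zero 1
  simp only [pow_succ, pow_zero, one_mul, Matrix.SpecialLinearGroup.coe_mul, wMat_coe, uMat_coe,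
    Matrix.SpecialLinearGroup.coe_one]
  ext i j
  fin_cases i <;> fin_cases j <;> simp [Matrix.mul_apply, Fin.sum_univ_four, ovF, h2]

theorem hasDihedral_grp [Finite F] {p : ℕ} (hT : TitsEndo θ)
    (h5 : p = 5 → ∃ r, r.Prime ∧ r ≠ p ∧ r ∣ Nat.card Fˣ) :
    HasDihedral p (grp θ) := by
  by_cases hex : ∃ r, r.Prime ∧ r ≠ p ∧ r ∣ Nat.card Fˣ
  · obtain ⟨r, hr, hrp, hrd⟩ := hex
    haveI := Fact.mk hr
    obtain ⟨t, ht⟩ := exists_prime_orderOf_dvd_card' (G := Fˣ) r hrd
    have h1 : tMat θ 1 = 1 := by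
      refine Subtype.ext ?_
      rw [tMat_coe, Matrix.SpecialLinearGroup.coe_one]
      ext i j
      fin_cases i <;> fin_cases j <;> simp
    have hpow : ∀ n : ℕ, tMat θ t ^ n = tMat θ (t ^ n) := by
      intro n
      induction n with
      | zero => rw [pow_zero, pow_zero, h1]
      | succ n ih => rw [pow_succ, pow_succ, ih, tMat_mul]
    let w : grp θ := ⟨wMat, wMat_mem θ hT.sq⟩
    let s : grp θ := ⟨tMat θ t, tMat_mem θ hT.sq t⟩
    have hw : w * w = 1 := Subtype.ext wMat_mul_self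
    refine ⟨w, w * s, r, hr, ?_, hrp, hw, Subtype.ext ?_, ?_, ?_⟩
    · rintro rfl
      have h2 : ((t : F)) ^ 2 = 1 := by
        rw [← Units.val_pow_eq_pow_val, ← ht, pow_orderOf_eq_one, Units.val_one]
      have h3 : t = 1 := Units.ext (sq_eq_one h2)
      rw [h3, orderOf_one] at ht
      omega
    · show wMat * tMat θ t * (wMat * tMat θ t) = 1
      rw [mul_assoc, ← mul_assoc (tMat θ t), tMat_mul_wMat, mul_assoc wMat (tMat θ t⁻¹), tMat_mul,
        inv_mul_cancel, h1, mul_one, wMat_mul_self]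
    · rw [← mul_assoc, hw, one_mul]
      intro h
      have h' : t = 1 := tMat_injective ((congrArg Subtype.val h : _).trans h1.symm)
      rw [h', orderOf_one] at ht
      exact hr.ne_one ht.symm
    · rw [← mul_assoc, hw, one_mul]
      refine Subtype.ext ?_
      show tMat θ t ^ r = 1
      rw [hpow, ← ht, pow_orderOf_eq_one, h1]
  · have hp5 : (5 : ℕ) ≠ p := fun h => hex (h5 h.symm)
    let w : grp θ := ⟨wMat, wMat_mem θ hT.sq⟩
    let u : grp θ := ⟨uMat θ 0 1, uMat_mem θ hT.sq 0 1⟩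
    refine ⟨w, u, 5, by norm_num, by norm_num, hp5, Subtype.ext wMat_mul_self, Subtype.ext ?_,
      fun h => ?_, Subtype.ext wMat_mul_uMat_pow_five⟩
    · show uMat θ 0 1 * uMat θ 0 1 = 1
      rw [uMat_mul hT, map_zero, zero_mul, add_zero, add_zero, CharTwo.add_self_eq_zero,
        uMat_zero_zero]
    · have h' := congrArg (fun m : grp θ =>
        ((m : Matrix.SpecialLinearGroup (Fin 4) F) : Matrix (Fin 4) (Fin 4) F) 0 0) h
      simp [w, u, wMat_coe, uMat_coe, Matrix.mul_apply, Fin.sum_univ_four] at h'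

end Suzuki

theorem five_not_dvd (m : ℕ) : ¬ 5 ∣ 2 ^ (2 * m + 1) - 1 := by
  intro h
  have h1 : ∀ k, 2 ^ (2 * k + 1) % 5 = 2 ∨ 2 ^ (2 * k + 1) % 5 = 3 := by
    intro k
    induction k with
    | zero => simp
    | succ k ih =>
      rw [show 2 * (k + 1) + 1 = 2 * k + 1 + 2 by ring, pow_add, Nat.mul_mod]
      rcases ih with h | h <;> rw [h] <;> norm_num
  have := h1 m
  have := Nat.one_le_two_pow (n := 2 * m + 1)
  omega

/-- A simple group with a strongly embedded subgroup has the dihedral pair. -/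
theorem hasDihedral_of_stronglyEmbedded {p : ℕ} (hp : p ≠ 3) {G : Type u} [Group G] [Finite G]
    [IsSimpleGroup G] (hna : ∃ a b : G, a * b ≠ b * a) {H : Subgroup G}
    (hH : Cfsg.IsStronglyEmbedded H) : HasDihedral p G := by
  haveI : Fact (Nat.Prime 2) := ⟨Nat.prime_two⟩
  obtain ⟨h2, hcore⟩ := CfsgLib.RankOneClassify.rankTwo_of_simple hH
  obtain ⟨Q, hQ, -, -⟩ := CfsgLib.RankOneClassify.allPPlus G H hH h2 hcore
  rcases CfsgLib.RankOneClassify.simple_list CfsgLib.RankOneClassify.pieces hH hQ with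
    ⟨F, hFi, hFt, n, hn, hF, ⟨e⟩⟩ | ⟨F, hFi, hFt, m, hm, hF, ⟨e⟩⟩ |
    ⟨F, hFi, hFt, n, hn, hF, ⟨e⟩⟩
  · haveI := charP_of_card_eq_prime_pow hF
    exact (hasDihedral_psl hp F).map e.symm.toMonoidHom e.symm.injective
  · haveI := CfsgLib.Suzuki.charP_two hF
    have hT := CfsgLib.Suzuki.titsEndo_theta hm hF
    have h := hasDihedral_grp (p := p) hT fun h5 => by
      have hc : Nat.card Fˣ = 2 ^ (2 * m + 1) - 1 := by
        rw [Nat.card_units, Nat.card_eq_fintype_card, hF]
      have hne : Nat.card Fˣ ≠ 1 := by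
        rw [hc]
        have : 2 ^ 2 ≤ 2 ^ (2 * m + 1) := Nat.pow_le_pow_right two_pos (by omega)
        omega
      refine ⟨(Nat.card Fˣ).minFac, Nat.minFac_prime hne, fun e => ?_, Nat.minFac_dvd _⟩
      have := Nat.minFac_dvd (Nat.card Fˣ)
      rw [e, h5, hc] at this
      exact five_not_dvd m this
    let f : Cfsg.Sz F m →* G :=
      e.symm.toMonoidHom.comp (CfsgLib.Suzuki.lieSzEquiv hm hF).toMonoidHom
    have hf : Function.Injective f := e.symm.injective.comp (MulEquiv.injective _)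
    refine HasDihedral.map f hf ?_
    rw [CfsgLib.Suzuki.sz_eq]
    exact h
  · have hF' : Fintype.card F = 2 ^ (n * 2) := by rw [hF, ← pow_mul]
    haveI := charP_of_card_eq_prime_pow hF'
    exact (hasDihedral_psu hp F).map e.symm.toMonoidHom e.symm.injective

end CfsgLib.LocalSFour60
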